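import Groth.Agent.QCohLib.QCoh
import Groth.Agent.DefClassLib.Basic
import Groth.Agent.FormalCohLib.Ample
import Groth.Agent.ProjFormLib.Frame
import Mathlib.Algebra.Homology.ShortComplex.HomologicalComplex

/-!
# Morphisms of modules tested on a basis of affine opens
-/

set_option autoImplicit false
set_option linter.style.haveILetI false
set_option backward.isDefEq.respectTransparency false
set_option backward.isDefEq.respectTransparency.types false
universe u

open CategoryTheory CategoryTheory.Limits AlgebraicGeometry TopologicalSpace Opposite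

noncomputable section

namespace KoszShLib

variable {X : Scheme.{u}}

/-- A class of affine opens forming a basis of the topology. -/
def IsBasisPred (Good : X.affineOpens → Prop) : Prop :=
  ∀ (x : X) (V : X.Opens), x ∈ V → ∃ U : X.affineOpens, Good U ∧ x ∈ U.1 ∧ U.1 ≤ V

theorem app_zero_apply {M N : X.Modules} (U : X.Opens) (s : Γ(M, U)) : (0 : M ⟶ N).app U s = 0 := rfl

theorem app_comp_apply {M N P : X.Modules} (a : M ⟶ N) (b : N ⟶ P) (U : X.Opens) (s : Γ(M, U)) :
    (a ≫ b).app U s = b.app U (a.app U s) := rfl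

theorem app_zero_of_comp {M N P : X.Modules} {a : M ⟶ N} {b : N ⟶ P} (h : a ≫ b = 0) (U : X.Opens)
    (s : Γ(M, U)) : b.app U (a.app U s) = 0 := congr(Scheme.Modules.Hom.app $h U s)

variable {Good : X.affineOpens → Prop} (hB : IsBasisPred Good)
include hB

theorem hom_zero_of_basis {M N : X.Modules} (α : M ⟶ N)
    (h : ∀ (U : X.affineOpens), Good U → ∀ s, α.app U.1 s = 0) : α = 0 := by
  refine QuotSchLib.hom_zero_of_affines α fun V s => ?_
  refine ProjFormLib.section_ext _ _ fun t ht => ?_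
  obtain ⟨U, hU, htU, hUV⟩ := hB t V.1 ht
  rw [← ProjFormLib.ger_res N hUV t htU, ← ProjFormLib.ger_res N hUV t htU (0 : Γ(N, V.1))]
  refine congrArg (ProjFormLib.ger N t htU) ?_
  refine (QCohLib.app_map α (homOfLE hUV) s).symm.trans ((h U hU _).trans ?_)
  exact (map_zero (N.presheaf.map (homOfLE hUV).op).hom).symm

theorem epi_of_basis {M N : X.Modules} (φ : M ⟶ N)
    (h : ∀ U : X.affineOpens, Good U → Function.Surjective (φ.app U.1)) : Epi φ := by
  refine Abelian.epi_of_cokernel_π_eq_zero _ (hom_zero_of_basis hB _ fun U hU s => ?_)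
  obtain ⟨m, rfl⟩ := h U hU s
  exact app_zero_of_comp (cokernel.condition φ) U.1 m

theorem exists_lift {A B C : X.Modules} (m : B ⟶ C) [Mono m] (a : A ⟶ C)
    (h : ∀ U : X.affineOpens, Good U → ∀ s, ∃ t, m.app U.1 t = a.app U.1 s) : ∃ l : A ⟶ B, l ≫ m = a := by
  have h0 : a ≫ cokernel.π m = 0 := hom_zero_of_basis hB _ fun U hU s => by
    obtain ⟨t, ht⟩ := h U hU s
    rw [app_comp_apply, ← ht]
    exact app_zero_of_comp (cokernel.condition m) U.1 t
  exact ⟨Abelian.monoLift m a h0, Abelian.monoLift_comp m a h0⟩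

/-- Monomorphisms with the same image have isomorphic sources. -/
theorem exists_iso_of_monos {A B C : X.Modules} (a : A ⟶ C) (b : B ⟶ C) [Mono a] [Mono b]
    (hab : ∀ U : X.affineOpens, Good U → ∀ s, ∃ t, b.app U.1 t = a.app U.1 s)
    (hba : ∀ U : X.affineOpens, Good U → ∀ t, ∃ s, a.app U.1 s = b.app U.1 t) :
    ∃ e : A ≅ B, e.hom ≫ b = a := by
  obtain ⟨l, hl⟩ := exists_lift hB b a hab
  obtain ⟨l', hl'⟩ := exists_lift hB a b hba
  exact ⟨⟨l, l', (cancel_mono a).1 (by rw [Category.assoc, hl', hl, Category.id_comp]),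
    (cancel_mono b).1 (by rw [Category.assoc, hl, hl', Category.id_comp])⟩, hl⟩

theorem exists_desc {W A B : X.Modules} (e : W ⟶ A) [Epi e] (g : W ⟶ B)
    (h : ∀ U : X.affineOpens, Good U → ∀ s, e.app U.1 s = 0 → g.app U.1 s = 0) : ∃ d : A ⟶ B, e ≫ d = g := by
  have h0 : kernel.ι e ≫ g = 0 := hom_zero_of_basis hB _ fun U hU s => by
    rw [app_comp_apply]
    exact h U hU _ (app_zero_of_comp (kernel.condition e) U.1 s)
  exact ⟨Abelian.epiDesc e g h0, Abelian.comp_epiDesc e g h0⟩

/-- Epimorphisms with the same kernel have isomorphic targets. -/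
theorem exists_iso_of_epis {W A B : X.Modules} (a : W ⟶ A) (b : W ⟶ B) [Epi a] [Epi b]
    (h : ∀ U : X.affineOpens, Good U → ∀ s, a.app U.1 s = 0 ↔ b.app U.1 s = 0) : Nonempty (A ≅ B) := by
  obtain ⟨d, hd⟩ := exists_desc hB a b fun U hU s hs => (h U hU s).1 hs
  obtain ⟨d', hd'⟩ := exists_desc hB b a fun U hU s hs => (h U hU s).2 hs
  exact ⟨⟨d, d', (cancel_epi a).1 (by rw [← Category.assoc, hd, hd', Category.comp_id]),
    (cancel_epi b).1 (by rw [← Category.assoc, hd', hd, Category.comp_id])⟩⟩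

omit hB

/-- Sections killed by a map come from its kernel. -/
theorem exists_of_kernel {K M N : X.Modules} {g : M ⟶ N} {k : K ⟶ M} {w : k ≫ g = 0}
    (hk : IsLimit (KernelFork.ofι k w)) {U : X.Opens} (x : Γ(M, U)) (hx : g.app U x = 0) :
    ∃ y : Γ(K, U), k.app U y = x :=
  QCohLib.exists_of_app_eq_zero (S := ShortComplex.mk k g w) (ShortComplex.exact_of_f_is_kernel _ hk)
    (mono_of_isLimit_fork hk) x hx

section Homology

variable (K : ChainComplex X.Modules ℕ) [∀ p, Coh.IsQCoh (K.X p)] (q : ℕ)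

theorem isQCoh_cycles : Coh.IsQCoh (K.cycles q) :=
  haveI := QCohLib.isQCoh_kernel (K.d q ((ComplexShape.down ℕ).next q))
  let e : kernel (K.d q ((ComplexShape.down ℕ).next q)) ≅ K.cycles q :=
    (kernelIsKernel (K.d q ((ComplexShape.down ℕ).next q))).conePointUniqueUpToIso (K.cyclesIsKernel q _ rfl)
  QCohLib.isQCoh_of_iso e

theorem isQCoh_homology : Coh.IsQCoh (K.homology q) :=
  haveI := isQCoh_cycles K q
  haveI := QCohLib.isQCoh_cokernel (K.toCycles (q + 1) q)
  let e : cokernel (K.toCycles (q + 1) q) ≅ K.homology q :=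
    (cokernelIsCokernel (K.toCycles (q + 1) q)).coconePointUniqueUpToIso
      (K.homologyIsCokernel (q + 1) q (ChainComplex.prev ℕ q))
  QCohLib.isQCoh_of_iso e

omit [∀ p, Coh.IsQCoh (K.X p)] in
theorem exists_cycle {U : X.Opens} (a : Γ(K.X q, U)) (ha : ∀ j, (K.d q j).app U a = 0) :
    ∃ z, (K.iCycles q).app U z = a :=
  exists_of_kernel (K.cyclesIsKernel q _ rfl) a (ha _)

omit [∀ p, Coh.IsQCoh (K.X p)] in
theorem iCycles_injective (U : X.Opens) : Function.Injective ((K.iCycles q).app U) :=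
  QCohLib.app_injective_of_mono _ U

theorem homologyπ_surjective {U : X.Opens} (hU : IsAffineOpen U) :
    Function.Surjective ((K.homologyπ q).app U) :=
  haveI := isQCoh_cycles K q
  haveI := isQCoh_homology K q
  FormalCohLib.app_surjective_of_epi _ hU

theorem homologyπ_eq_zero_iff {U : X.Opens} (hU : IsAffineOpen U) (z : Γ(K.cycles q, U)) :
    (K.homologyπ q).app U z = 0 ↔ ∃ c, (K.d (q + 1) q).app U c = (K.iCycles q).app U z := by
  haveI := isQCoh_cycles K q
  haveI := isQCoh_homology K q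
  constructor
  · intro hz
    let S := ShortComplex.mk _ _ (K.toCycles_comp_homologyπ (q + 1) q)
    have hS : S.Exact := ShortComplex.exact_of_g_is_cokernel _
      (K.homologyIsCokernel (q + 1) q (ChainComplex.prev ℕ q))
    haveI : Epi (kernel.lift S.g S.f S.zero) := S.exact_iff_epi_kernel_lift.1 hS
    haveI : Coh.IsQCoh S.X₁ := inferInstanceAs (Coh.IsQCoh (K.X (q + 1)))
    haveI : Coh.IsQCoh (kernel S.g) := QCohLib.isQCoh_kernel (K.homologyπ q)
    obtain ⟨y, hy⟩ := exists_of_kernel (w := kernel.condition _) (kernelIsKernel (K.homologyπ q)) z hz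
    obtain ⟨c, hc⟩ := FormalCohLib.app_surjective_of_epi (kernel.lift S.g S.f S.zero) hU y
    refine ⟨c, ?_⟩
    rw [← hy, ← hc, ← app_comp_apply (kernel.lift S.g S.f S.zero), kernel.lift_ι]
    exact congr(Scheme.Modules.Hom.app $((K.toCycles_i (q + 1) q)) U c).symm
  · rintro ⟨c, hc⟩
    have hz : z = (K.toCycles (q + 1) q).app U c := iCycles_injective K q U
      (hc.symm.trans (congr(Scheme.Modules.Hom.app $((K.toCycles_i (q + 1) q)) U c).symm))
    rw [hz]
    exact app_zero_of_comp (K.toCycles_comp_homologyπ _ _) U c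

end Homology

end KoszShLib

end
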