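import Groth.Agent.KoszShLib.Map
import Groth.Agent.KoszShLib.Tools
import Groth.Agent.SurfNumLib.IdealMul
import Groth.Agent.ExtPowLib.Sheaf
import Mathlib.LinearAlgebra.ExteriorPower.Basis

/-!
# Koszul complexes of sums of effective Cartier divisors over small affine opens
-/

set_option autoImplicit false
set_option linter.style.haveILetI false
set_option backward.isDefEq.respectTransparency false
set_option backward.isDefEq.respectTransparency.types false
universe u

open CategoryTheory CategoryTheory.Limits AlgebraicGeometry TopologicalSpace Opposite exteriorPower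
open AmpleLib (res GenOn shT)

noncomputable section

namespace KoszShLib

variable {X : Scheme.{u}} {n : ℕ}

/-- The value of a section of an ideal module. -/
abbrev val (I : X.IdealSheafData) {U : X.Opens} (t : Γ(ClSub.idealMod I, U)) : Γ(X, U) := SurfNumLib.val I t

theorem ideal_eq_span {I : X.IdealSheafData} {U : X.affineOpens} {σ : Γ(ClSub.idealMod I, U.1)}
    (hσ : GenOn (ClSub.idealMod I) σ) : I.ideal U = Ideal.span {val I σ} := by
  refine le_antisymm (fun a ha => ?_) ?_
  · obtain ⟨s, hs⟩ := IntMultLib.exists_section I U ha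
    obtain ⟨c, hc⟩ := (hσ U.1 le_rfl).2 s
    simp only [AmpleLib.res_refl] at hc
    refine Ideal.mem_span_singleton'.2 ⟨c, ?_⟩
    rw [← SurfNumLib.val_smul, hc]
    exact hs
  · rw [Ideal.span_le, Set.singleton_subset_iff]
    exact (IntMultLib.toSubscheme_app_eq_zero_iff I U _).mp
      (app_zero_of_comp (kernel.condition (ClSub.toSubscheme I)) U.1 σ)

theorem val_mem_nonZeroDivisors {I : X.IdealSheafData} {U : X.Opens} {σ : Γ(ClSub.idealMod I, U)}
    (hσ : GenOn (ClSub.idealMod I) σ) : val I σ ∈ nonZeroDivisors Γ(X, U) := by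
  refine mem_nonZeroDivisors_iff_right.mpr fun r hr => (hσ U le_rfl).1 ?_
  simp only [AmpleLib.res_refl, zero_smul]
  refine IntMultLib.idealModι_app_injective I U ?_
  rw [map_zero]
  exact (SurfNumLib.val_smul I r σ).trans hr

variable (IY : Fin n → X.IdealSheafData) (ID : X.IdealSheafData)

/-- An affine open over which all the divisors are principal. -/
def Good (U : X.affineOpens) : Prop :=
  (∀ i, ∃ σ : Γ(ClSub.idealMod (IY i), U.1), GenOn _ σ) ∧ ∃ τ : Γ(ClSub.idealMod ID, U.1), GenOn _ τ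

theorem isBasisPred_good (hY : ∀ i, BlowUp.IsEffCartierIdeal (IY i)) (hD : BlowUp.IsEffCartierIdeal ID) :
    IsBasisPred (Good IY ID) := by
  intro x V hx
  choose W σ hxW hσ using fun i => TwistLib.exists_genOn (IntMultLib.isInvertible_idealMod _ (hY i)) x
  obtain ⟨W₀, τ, hxW₀, hτ⟩ := TwistLib.exists_genOn (IntMultLib.isInvertible_idealMod _ hD) x
  let O : X.Opens := ⟨⋂ i, (W i : Set X), isOpen_iInter_of_finite fun i => (W i).isOpen⟩
  obtain ⟨U, hU, hxU, hUO⟩ := Opens.isBasis_iff_nbhd.mp X.isBasis_affineOpens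
    (show x ∈ O ⊓ W₀ ⊓ V from ⟨⟨Set.mem_iInter.2 hxW, hxW₀⟩, hx⟩)
  refine ⟨⟨U, hU⟩, ⟨fun i => ⟨_, (hσ i).res (fun y hy => Set.mem_iInter.1 (hUO hy).1.1 i : U ≤ W i)⟩,
    ⟨_, hτ.res (fun y hy => (hUO hy).1.2 : U ≤ W₀)⟩⟩, hxU, fun y hy => (hUO hy).2⟩

theorem app_sum {M N : X.Modules} {ι : Type*} (s : Finset ι) (f : ι → (M ⟶ N)) (U : X.Opens) (x : Γ(M, U)) :
    (∑ i ∈ s, f i).app U x = ∑ i ∈ s, (f i).app U x :=
  map_sum (AddMonoidHom.mk' (fun g : M ⟶ N => g.app U x) fun g g' => rfl) f s

/-- Sections of a finite sum of generated modules have a basis. -/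
theorem exists_sigma_basis {M : Fin n → X.Modules} {U : X.Opens} {σ : ∀ i, Γ(M i, U)}
    (hσ : ∀ i, GenOn (M i) (σ i)) :
    ∃ b : Module.Basis (Fin n) Γ(X, U) Γ(∐ M, U), ∀ i, b i = (Sigma.ι M i).app U (σ i) := by
  classical
  let π : ∀ i, ∐ M ⟶ M i := fun i => Sigma.desc fun j =>
    if h : j = i then eqToHom (congrArg M h) else 0
  have hπ : ∀ i, Sigma.ι M i ≫ π i = 𝟙 _ := fun i => by simp [π]
  have hπ0 : ∀ i j, j ≠ i → Sigma.ι M j ≫ π i = 0 := fun i j h => by simp [π, h]
  have hid : ∑ i, π i ≫ Sigma.ι M i = 𝟙 (∐ M) := Sigma.hom_ext _ _ fun j => by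
    rw [Preadditive.comp_sum, Finset.sum_eq_single j, ← Category.assoc, hπ, Category.id_comp, Category.comp_id]
    · intro i _ hij
      rw [← Category.assoc, hπ0 i j (Ne.symm hij), zero_comp]
    · simp
  let T := Fintype.linearCombination Γ(X, U) (M := Γ(∐ M, U)) fun i => (Sigma.ι M i).app U (σ i)
  have hT : ∀ c i, (π i).app U (T c) = c i • σ i := fun c i => by
    simp only [T, Fintype.linearCombination_apply, map_sum, QCohLib.app_smul]
    rw [Finset.sum_eq_single i]
    · rw [← app_comp_apply (Sigma.ι M i), hπ]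
      rfl
    · intro j _ hji
      rw [← app_comp_apply (Sigma.ι M j), hπ0 i j hji, app_zero_apply, smul_zero]
    · simp
  have hb : Function.Bijective T := by
    refine ⟨fun c c' h => funext fun i => (hσ i U le_rfl).1 ?_, fun x => ?_⟩
    · simp only [AmpleLib.res_refl]
      rw [← hT, ← hT, h]
    · choose c hc using fun i => (hσ i U le_rfl).2 ((π i).app U x)
      simp only [AmpleLib.res_refl] at hc
      refine ⟨c, ?_⟩
      simp only [T, Fintype.linearCombination_apply]
      refine Eq.trans ?_ (congr(Scheme.Modules.Hom.app $hid U x))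
      rw [app_sum]
      refine Finset.sum_congr rfl fun i _ => ?_
      rw [app_comp_apply, ← hc i, QCohLib.app_smul]
  refine ⟨Module.Basis.ofEquivFun (LinearEquiv.ofBijective T hb).symm, fun i => ?_⟩
  rw [Module.Basis.coe_ofEquivFun, LinearEquiv.symm_symm]
  exact (Fintype.linearCombination_apply_single _ _ _ _).trans (one_smul _ _)

theorem exists_incl (I J : X.IdealSheafData) :
    ∃ j : ClSub.idealMod (I * J) ⟶ ClSub.idealMod I, j ≫ ClSub.idealModι I = ClSub.idealModι (I * J) := by
  refine ⟨kernel.lift _ (ClSub.idealModι (I * J)) (DefClassLib.hom_ext_affines fun U s => ?_), kernel.lift_ι _ _ _⟩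
  refine ((IntMultLib.toSubscheme_app_eq_zero_iff I U _).mpr ?_).trans rfl
  have h : val (I * J) s ∈ (I * J).ideal U := (IntMultLib.toSubscheme_app_eq_zero_iff (I * J) U _).mp
    (app_zero_of_comp (kernel.condition (ClSub.toSubscheme (I * J))) U.1 s)
  rw [Scheme.IdealSheafData.ideal_mul, Pi.mul_apply] at h
  exact Ideal.mul_le_left h

theorem isQCoh_sigmaFin (M : Fin n → X.Modules) (h : ∀ i, Coh.IsQCoh (M i)) : Coh.IsQCoh (∐ M) :=
  QCohLib.isQCoh_of_isColimit (fun _ => inferInstance) (fun k => h k.as) (colimit.isColimit _)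

theorem isQCoh_term {E : X.Modules} [Coh.IsQCoh E] {s : E ⟶ Coh.structureModule X} (C : KoszSh.Cx E s) (p : ℕ) :
    Coh.IsQCoh (C.K.X p) := by
  obtain ⟨L', hq, hL'⟩ := ExtPowLib.exists_isExtPow (E := E) (n := p)
  obtain ⟨i⟩ := ExtPowLib.nonempty_iso hL' (C.isExtPow p)
  exact QCohLib.isQCoh_of_iso i

theorem bijective_map {R M N : Type u} [CommRing R] [AddCommGroup M] [AddCommGroup N] [Module R M] [Module R N]
    (e : M ≃ₗ[R] N) (p : ℕ) : Function.Bijective (exteriorPower.map p e.toLinearMap) := by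
  refine Function.bijective_iff_has_inverse.2 ⟨exteriorPower.map p e.symm.toLinearMap, fun z => ?_, fun z => ?_⟩
  · rw [← LinearMap.comp_apply, ← exteriorPower.map_comp]
    simp
  · rw [← LinearMap.comp_apply, ← exteriorPower.map_comp]
    simp

variable {s : ∐ (fun i => ClSub.idealMod (IY i)) ⟶ Coh.structureModule X}
  {s' : ∐ (fun i => ClSub.idealMod (IY i * ID)) ⟶ Coh.structureModule X}
  (C : KoszSh.Cx (∐ fun i => ClSub.idealMod (IY i)) s)
  (C' : KoszSh.Cx (∐ fun i => ClSub.idealMod (IY i * ID)) s')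

/-- Over a small open the twisted Koszul complex is the subcomplex `x^p • C_p`. -/
theorem exists_scaling {j : ∀ i, ClSub.idealMod (IY i * ID) ⟶ ClSub.idealMod (IY i)}
    (hj : ∀ i, j i ≫ ClSub.idealModι (IY i) = ClSub.idealModι (IY i * ID))
    {φ : C'.K ⟶ C.K} (hφ : ∀ (p : ℕ) (U : X.affineOpens) (e : Fin p → Γ(∐ (fun i => ClSub.idealMod (IY i * ID)), U.1)),
      (φ.f p).app U.1 ((C'.loc p U).symm (ιMulti _ p e)) =
        (C.loc p U).symm (ιMulti _ p (fun k => (Limits.Sigma.map j).app U.1 (e k))))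
    {U : X.affineOpens} (hU : Good IY ID U) {τ : Γ(ClSub.idealMod ID, U.1)} (hτ : GenOn _ τ) (p : ℕ) :
    IsSMulRegular Γ(C.K.X p, U.1) (val ID τ) ∧
    ∃ L : Γ(C'.K.X p, U.1) → Γ(C.K.X p, U.1), Function.Bijective L ∧
      ∀ a, (φ.f p).app U.1 a = val ID τ ^ p • L a := by
  choose σ hσ using hU.1
  let x := val ID τ
  have hx := val_mem_nonZeroDivisors hτ
  have hI : ∀ i, (IY i * ID).ideal U = Ideal.span {val (IY i) (σ i) * x} := fun i => by
    rw [Scheme.IdealSheafData.ideal_mul, Pi.mul_apply, ideal_eq_span (hσ i), ideal_eq_span hτ,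
      Ideal.span_singleton_mul_span_singleton]
  choose σ' hσ' using fun i => IntMultLib.exists_section (IY i * ID) U
    (a := val (IY i) (σ i) * x) (hI i ▸ Ideal.mem_span_singleton_self _)
  have hg : ∀ i, GenOn _ (σ' i) := fun i => SurfNumLib.genOn_of_generator _ U
    (mul_mem (val_mem_nonZeroDivisors (hσ i)) hx) (hI i) (hσ' i)
  obtain ⟨b, hb⟩ := exists_sigma_basis hσ
  obtain ⟨b', hb'⟩ := exists_sigma_basis (M := fun i => ClSub.idealMod (IY i * ID)) hg
  let l := b'.equiv b (Equiv.refl _)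
  have hfl : appLin (Limits.Sigma.map j) U.1 = x • l.toLinearMap := b'.ext fun i => by
    have h1 : (j i).app U.1 (σ' i) = x • σ i := by
      refine IntMultLib.idealModι_app_injective (IY i) U.1 ?_
      rw [← app_comp_apply, hj i]
      refine (hσ' i).trans ?_
      exact (mul_comm _ _).trans (SurfNumLib.val_smul (IY i) x (σ i)).symm
    have h2 : l (b' i) = b i := b'.equiv_apply i b (Equiv.refl _)
    simp only [appLin_apply, LinearMap.smul_apply, LinearEquiv.coe_coe]
    rw [h2, hb' i, hb i]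
    rw [← app_comp_apply, Sigma.ι_map, app_comp_apply, h1, QCohLib.app_smul]
  refine ⟨?_, ((C.loc p U).symm.toLinearMap ∘ₗ exteriorPower.map p l.toLinearMap ∘ₗ (C'.loc p U).toLinearMap : _), ?_, ?_⟩
  · let B := (b.exteriorPower p).map (C.loc p U).symm
    intro a a' h
    refine B.repr.injective (Finsupp.ext fun k => ?_)
    have h' := congrArg (fun c => B.repr c k) h
    simp only [map_smul, Finsupp.smul_apply, smul_eq_mul] at h'
    exact (mem_nonZeroDivisors_iff_left.mp hx) _ (by rw [mul_sub, h', sub_self]) |> sub_eq_zero.mp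
  · exact (C.loc p U).symm.bijective.comp ((bijective_map l p).comp (C'.loc p U).bijective)
  · intro a
    rw [app_eq_extLin (Limits.Sigma.map j) C' C hφ]
    refine LinearMap.congr_fun (ext_symm C' (a := extLin (Limits.Sigma.map j) C' C p U)
      (b := x ^ p • ((C.loc p U).symm.toLinearMap ∘ₗ exteriorPower.map p l.toLinearMap ∘ₗ (C'.loc p U).toLinearMap))
      fun e => ?_) a
    rw [extLin_symm]
    simp only [LinearMap.smul_apply, LinearMap.comp_apply, LinearEquiv.coe_coe, LinearEquiv.apply_symm_apply,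
      exteriorPower.map_apply_ιMulti, ← map_smul]
    congr 1
    have : (fun k => (Limits.Sigma.map j).app U.1 (e k)) = fun k => x • l (e k) :=
      funext fun k => LinearMap.congr_fun hfl (e k)
    rw [this, AlternatingMap.map_smul_univ]
    simp [Finset.prod_const, Function.comp_def]

end KoszShLib

end
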