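import Groth.Agent.KoszShLib.Model
import Groth.Agent.KoszShLib.Local
import Groth.Agent.RGFlatLib.ModSheaf
import Groth.Agent.FinLFAnnLib.Main
import Mathlib.RingTheory.Regular.Flat

/-!
# Exactness and regularity on the homology of Koszul complexes of cosections
-/

set_option autoImplicit false
set_option linter.style.haveILetI false
set_option backward.isDefEq.respectTransparency false
set_option backward.isDefEq.respectTransparency.types false
universe u

open CategoryTheory CategoryTheory.Limits AlgebraicGeometry TopologicalSpace Opposite exteriorPower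
open KoszDetLib (IsExactK)

noncomputable section

namespace KoszShLib

variable {X : Scheme.{u}} {n : ℕ} {E : X.Modules} {s : E ⟶ Coh.structureModule X} (C : KoszSh.Cx E s)

/-- The values of a cosection on a basis of sections. -/
abbrev secVals (s : E ⟶ Coh.structureModule X) {U : X.Opens} (b : Module.Basis (Fin n) Γ(X, U) Γ(E, U)) :
    Fin n → Γ(X, U) := vals b (KoszSh.secForm s U)

/-- The differential read on exterior powers of sections. -/
def dU (U : X.affineOpens) (p : ℕ) : ↥(⋀[Γ(X, U.1)]^(p + 1) Γ(E, U.1)) →ₗ[Γ(X, U.1)] ↥(⋀[Γ(X, U.1)]^p Γ(E, U.1)) :=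
  (C.loc p U).toLinearMap ∘ₗ appLin (C.K.d (p + 1) p) U.1 ∘ₗ (C.loc (p + 1) U).symm.toLinearMap

theorem dU_loc (U : X.affineOpens) (p : ℕ) (z : Γ(C.K.X (p + 1), U.1)) :
    dU C U p (C.loc (p + 1) U z) = C.loc p U ((C.K.d (p + 1) p).app U.1 z) := by
  simp [dU]

theorem dU_rule (U : X.affineOpens) (p : ℕ) (e : Fin (p + 1) → Γ(E, U.1)) :
    dU C U p (ιMulti _ (p + 1) e) = KoszSh.dGen (KoszSh.secForm s U.1) p e := by
  show C.loc p U ((C.K.d (p + 1) p).app U.1 ((C.loc (p + 1) U).symm (ιMulti _ (p + 1) e))) = _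
  rw [C.rule, LinearEquiv.apply_symm_apply]

theorem exists_d_app_of_isExactK (U : X.affineOpens) (b : Module.Basis (Fin n) Γ(X, U.1) Γ(E, U.1))
    (hf : IsExactK (secVals s b)) {p : ℕ} (z : Γ(C.K.X (p + 1), U.1)) (hz : (C.K.d (p + 1) p).app U.1 z = 0) :
    ∃ c, (C.K.d (p + 1 + 1) (p + 1)).app U.1 c = z := by
  obtain ⟨w, hw⟩ := exists_d_of_isExactK b (KoszSh.secForm s U.1) (dU C U) (dU_rule C U) hf (C.loc (p + 1) U z)
    (by rw [dU_loc, hz, map_zero])
  refine ⟨(C.loc (p + 1 + 1) U).symm w, (C.loc (p + 1) U).injective ?_⟩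
  rw [← dU_loc, LinearEquiv.apply_symm_apply, hw]

theorem exists_d_app_of_regK (U : X.affineOpens) (b : Module.Basis (Fin n) Γ(X, U.1) Γ(E, U.1)) {x : Γ(X, U.1)}
    (hx : RegK x (secVals s b)) {p : ℕ} (z : Γ(C.K.X p, U.1)) (hz : ∀ k, (C.K.d p k).app U.1 z = 0)
    (w : Γ(C.K.X (p + 1), U.1)) (hw : (C.K.d (p + 1) p).app U.1 w = x • z) :
    ∃ c, (C.K.d (p + 1) p).app U.1 c = z := by
  obtain ⟨c, hc⟩ := exists_d_of_regK b (KoszSh.secForm s U.1) (dU C U) (dU_rule C U) hx (C.loc p U z)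
    (fun q h => by subst h; rw [dU_loc, hz q, map_zero]) (C.loc (p + 1) U w) (by rw [dU_loc, hw, map_smul])
  refine ⟨(C.loc (p + 1) U).symm c, (C.loc p U).injective ?_⟩
  rw [← dU_loc, LinearEquiv.apply_symm_apply, hc]

/-- A basis of sections restricts to basic opens. -/
theorem exists_basis_res [Coh.IsQCoh E] {U : X.affineOpens} (b : Module.Basis (Fin n) Γ(X, U.1) Γ(E, U.1))
    (g : Γ(X, U.1)) :
    ∃ b' : Module.Basis (Fin n) Γ(X, X.basicOpen g) Γ(E, X.basicOpen g),
      ∀ i, b' i = AmpleLib.res E (X.basicOpen_le g) (b i) := by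
  haveI := U.2.isLocalization_basicOpen g
  letI : Module Γ(X, U.1) Γ(E, X.basicOpen g) :=
    Module.compHom _ (algebraMap Γ(X, U.1) Γ(X, X.basicOpen g))
  haveI : IsScalarTower Γ(X, U.1) Γ(X, X.basicOpen g) Γ(E, X.basicOpen g) :=
    IsScalarTower.of_algebraMap_smul fun _ _ => rfl
  haveI := RGFlatLib.isLocalizedModule_resLin E U.2 g (fun r m => rfl)
  exact ⟨b.ofIsLocalizedModule Γ(X, X.basicOpen g) (Submonoid.powers g)
    (RGFlatLib.resLin E (X.basicOpen_le g) fun r m => rfl), fun i => Module.Basis.ofIsLocalizedModule_apply _ _ _ _ _⟩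

theorem secForm_res (s : E ⟶ Coh.structureModule X) {U V : X.Opens} (h : V ≤ U) (e : Γ(E, U)) :
    KoszSh.secForm s V (AmpleLib.res E h e) = X.presheaf.map (homOfLE h).op (KoszSh.secForm s U e) :=
  QCohLib.app_map s (homOfLE h) e

/-- An affine open with a basis on which the values of the cosection are Koszul exact. -/
def GoodExact (s : E ⟶ Coh.structureModule X) (n : ℕ) (U : X.affineOpens) : Prop :=
  ∃ b : Module.Basis (Fin n) Γ(X, U.1) Γ(E, U.1), IsExactK (secVals s b)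

theorem goodExact_basicOpen [Coh.IsQCoh E] {U : X.affineOpens} (hU : GoodExact s n U) (g : Γ(X, U.1)) :
    GoodExact s n (X.affineBasicOpen g) := by
  obtain ⟨b, hb⟩ := hU
  obtain ⟨b', hb'⟩ := exists_basis_res b g
  refine ⟨b', ?_⟩
  haveI := U.2.isLocalization_basicOpen g
  haveI : Module.Flat Γ(X, U.1) Γ(X, X.basicOpen g) := IsLocalization.flat _ (Submonoid.powers g)
  have h := KRLib.isExactK_of_flat (R := Γ(X, X.basicOpen g)) hb
  have e : secVals s b' = fun i => algebraMap Γ(X, U.1) Γ(X, X.basicOpen g) (secVals s b i) := funext fun i => ?_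
  · exact (e.symm ▸ h : IsExactK (secVals s b'))
  exact (congrArg (KoszSh.secForm s (X.basicOpen g)) (hb' i)).trans (secForm_res s (X.basicOpen_le g) (b i))

theorem isBasisPred_goodExact [Coh.IsQCoh E] (h : ∀ x : X, ∃ U : X.affineOpens, x ∈ U.1 ∧ GoodExact s n U) :
    IsBasisPred (GoodExact s n) := by
  intro x V hxV
  obtain ⟨U, hxU, hU⟩ := h x
  obtain ⟨g, hgV, hxg⟩ := QCohLib.exists_basicOpen_nhd U.2 hxV hxU
  exact ⟨X.affineBasicOpen g, goodExact_basicOpen hU g, hxg, hgV⟩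

/-- **Koszul complexes of regular sections are resolutions.** -/
theorem isZero_homology (hE : FlatMod.IsFinLocFreeOfRank n E)
    (hs : ∀ x : X, ∃ U : X.affineOpens, x ∈ U.1 ∧
      ∃ b : Module.Basis (Fin n) Γ(X, U.1) Γ(E, U.1),
        RingTheory.Sequence.IsWeaklyRegular Γ(X, U.1) (List.ofFn fun k => KoszSh.secForm s U.1 (b k)))
    (q : ℕ) (hq : 1 ≤ q) : Limits.IsZero (C.K.homology q) := by
  haveI : Coh.IsQCoh E := FinLFAnn.isQCoh_of_isFinLocFree fun x =>
    let ⟨U, hxU, hU⟩ := hE x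
    ⟨U, n, hxU, hU⟩
  haveI := isQCoh_term C
  have hB : IsBasisPred (GoodExact s n) := isBasisPred_goodExact fun x => by
    obtain ⟨U, hxU, b, hb⟩ := hs x
    refine ⟨U, hxU, b, KRLib.isExactK_cast (KRLib.isExactK_of_isWeaklyRegular _ hb) (List.length_ofFn ..) fun i => ?_⟩
    rw [List.get_ofFn]
    rfl
  obtain ⟨p, rfl⟩ := Nat.exists_eq_add_of_le' hq
  refine IsZero.of_epi_eq_zero (C.K.homologyπ (p + 1)) (hom_zero_of_basis hB _ fun U hU z => ?_)
  obtain ⟨b, hb⟩ := hU
  refine (homologyπ_eq_zero_iff C.K (p + 1) U.2 z).2 (exists_d_app_of_isExactK C U b hb _ ?_)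
  exact app_zero_of_comp (C.K.iCycles_d (p + 1) p) U.1 z

end KoszShLib

end
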