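import Groth.Agent.KoszShLib.Tools
import Groth.Agent.GrTildeLib.TensLift
import Groth.Agent.AmpleThLib.Pow

/-!
# Sections of a tensor product with a generated module
-/

set_option autoImplicit false
set_option linter.style.haveILetI false
set_option backward.isDefEq.respectTransparency false
set_option backward.isDefEq.respectTransparency.types false
universe u

open CategoryTheory CategoryTheory.Limits AlgebraicGeometry TopologicalSpace Opposite
open AmpleLib (res GenOn shT)
open scoped MonoidalCategory TensorProduct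

noncomputable section

namespace KoszShLib

variable {X : Scheme.{u}} {E N : X.Modules}

theorem shT_add_left' {U : X.Opens} (m m' : Γ(E, U)) (n : Γ(N, U)) :
    shT (m + m') n = shT m n + shT m' n :=
  (congrArg (KFlatLib.shApp E N U) (TensorProduct.add_tmul _ _ _)).trans (KFlatLib.shApp_add _ _ _ _ _)

theorem shT_zero_left' {U : X.Opens} (n : Γ(N, U)) : shT (0 : Γ(E, U)) n = 0 := by
  have h := shT_add_left' (0 : Γ(E, U)) 0 n
  rw [add_zero] at h
  exact left_eq_add.mp h

theorem shT_right_injective {U : X.Opens} {g : Γ(N, U)} (hg : GenOn N g) (a b : Γ(E, U))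
    (h : shT a g = shT b g) : a = b := by
  refine ProjFormLib.section_ext _ _ fun x hx => ?_
  have h1 := congrArg ((CohB1.tensorMod E N).presheaf.germ U x hx) h
  have e : ∀ c : Γ(E, U), (CohB1.tensorMod E N).presheaf.germ U x hx (shT c g) =
      KFlatLib.stalkTensorLin E N x (E.presheaf.germ U x hx c ⊗ₜ N.presheaf.germ U x hx g) :=
    fun c => (KFlatLib.stalkTensorLin_germ E N x hx c g).symm
  rw [e, e] at h1
  exact (GrTildeLib.bijective_tmul_gen (S := X.presheaf.stalk x) (A := E.presheaf.stalk x) _ (hg.genAt hx)).1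
    ((KFlatLib.stalkTensorLin_bijective E N x).1 h1)

theorem exists_shT_right {U : X.Opens} {g : Γ(N, U)} (hg : GenOn N g) (e : Γ(CohB1.tensorMod E N, U)) :
    ∃ m : Γ(E, U), shT m g = e := by
  have hloc : ∀ x : U, ∃ (V : X.Opens) (_ : x.1 ∈ V) (h : V ≤ U) (m : Γ(E, V)),
      shT m (res N h g) = res (CohB1.tensorMod E N) h e := by
    rintro ⟨x, hx⟩
    obtain ⟨a, ha⟩ := ((KFlatLib.stalkTensorLin_bijective E N x).comp
      (GrTildeLib.bijective_tmul_gen (S := X.presheaf.stalk x) (A := E.presheaf.stalk x) _ (hg.genAt hx))).2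
        ((CohB1.tensorMod E N).presheaf.germ U x hx e)
    obtain ⟨W, hxW, m, rfl⟩ := E.presheaf.exists_germ_eq (x := x) a
    have hz : x ∈ W ⊓ U := ⟨hxW, hx⟩
    have e1 : (CohB1.tensorMod E N).presheaf.germ (W ⊓ U) x hz
        (shT (res E inf_le_left m) (res N inf_le_right g)) = (CohB1.tensorMod E N).presheaf.germ U x hx e := by
      refine Eq.trans ?_ ha
      show _ = KFlatLib.stalkTensorLin E N x (E.presheaf.germ W x hxW m ⊗ₜ N.presheaf.germ U x hx g)
      rw [← AmpleLib.germ_res E (inf_le_left : W ⊓ U ≤ W) m hz,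
        ← AmpleLib.germ_res N (inf_le_right : W ⊓ U ≤ U) g hz, KFlatLib.stalkTensorLin_germ]
      rfl
    obtain ⟨V, hxV, i₁, i₂, hV⟩ := TopCat.Presheaf.germ_eq _ _ hz hx _ _ e1
    refine ⟨V, hxV, i₂.le, res E (i₁.le.trans inf_le_left) m, ?_⟩
    refine Eq.trans ?_ hV
    refine Eq.trans ?_ (AmpleLib.shT_res i₁.le _ _).symm
    rw [AmpleLib.res_res, AmpleLib.res_res]
  choose V hxV hVU m hm using hloc
  obtain ⟨s, hs, -⟩ := TopCat.Sheaf.existsUnique_gluing' (⟨E.presheaf, E.isSheaf⟩ : TopCat.Sheaf AddCommGrpCat _)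
    V U (fun x => homOfLE (hVU x)) (fun x hx => Opens.mem_iSup.2 ⟨⟨x, hx⟩, hxV _⟩) m (fun x y => by
      show res E inf_le_left (m x) = res E inf_le_right (m y)
      refine shT_right_injective (hg.res ((inf_le_left : V x ⊓ V y ≤ V x).trans (hVU x))) _ _ ?_
      have hx' := congrArg (res (CohB1.tensorMod E N) (inf_le_left : V x ⊓ V y ≤ V x)) (hm x)
      have hy' := congrArg (res (CohB1.tensorMod E N) (inf_le_right : V x ⊓ V y ≤ V y)) (hm y)
      simp only [AmpleLib.shT_res, AmpleLib.res_res] at hx' hy'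
      exact hx'.trans hy'.symm)
  refine ⟨s, TopCat.Sheaf.eq_of_locally_eq' (⟨(CohB1.tensorMod E N).presheaf, (CohB1.tensorMod E N).isSheaf⟩ :
    TopCat.Sheaf AddCommGrpCat _) V U (fun x => homOfLE (hVU x)) (fun x hx => Opens.mem_iSup.2 ⟨⟨x, hx⟩, hxV _⟩)
    _ _ fun x => ?_⟩
  show res (CohB1.tensorMod E N) (hVU x) (shT s g) = res (CohB1.tensorMod E N) (hVU x) e
  rw [AmpleLib.shT_res, ← hm x]
  exact congrArg (shT · _) (hs x)

/-- A morphism tensored with a module. -/
theorem exists_tensor_map {E' : X.Modules} (α : E ⟶ E') (N : X.Modules) :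
    ∃ φ : CohB1.tensorMod E N ⟶ CohB1.tensorMod E' N,
      ∀ (V : X.Opens) (m : Γ(E, V)) (n : Γ(N, V)), φ.app V (shT m n) = shT (α.app V m) n :=
  ⟨((DCoh.tensorBi (X := X)).map α).app N, fun V m n => KFlatLib.shApp_map (M := E) (N := N)
    (DCoh.toP.map α ▷ DCoh.toP.obj N) V _⟩

/-- The product of two forms. -/
theorem exists_tensor_forms (a : E ⟶ Coh.structureModule X) (b : N ⟶ Coh.structureModule X) :
    ∃ φ : CohB1.tensorMod E N ⟶ Coh.structureModule X, ∀ (V : X.Opens) (m : Γ(E, V)) (n : Γ(N, V)),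
      (show Γ(X, V) from φ.app V (shT m n)) = (show Γ(X, V) from a.app V m) * (show Γ(X, V) from b.app V n) :=
  GrTildeLib.exists_tens_hom (M := E) (N := N) (P := Coh.structureModule X)
    (fun V m n => ((show Γ(X, V) from a.app V m) * (show Γ(X, V) from b.app V n) : Γ(X, V)))
    (fun V m m' n => (congrArg (fun r : Γ(X, V) => r * (show Γ(X, V) from b.app V n))
      (map_add (a.app V).hom m m')).trans (add_mul (R := Γ(X, V)) _ _ _))
    (fun V m n n' => (congrArg (fun r : Γ(X, V) => (show Γ(X, V) from a.app V m) * r)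
      (map_add (b.app V).hom n n')).trans (mul_add (R := Γ(X, V)) _ _ _))
    (fun V r m n => (congrArg (fun c : Γ(X, V) => c * (show Γ(X, V) from b.app V n))
      (QCohLib.app_smul a V r m)).trans (mul_assoc r (show Γ(X, V) from a.app V m) _))
    (fun V r m n => (congrArg (fun c : Γ(X, V) => (show Γ(X, V) from a.app V m) * c)
      (QCohLib.app_smul b V r n)).trans (mul_left_comm (show Γ(X, V) from a.app V m) r _))
    (fun V W h m n => (map_mul (X.presheaf.map (homOfLE h).op).hom _ _).trans
      (congr_arg₂ (fun r r' : Γ(X, V) => r * r') (QCohLib.app_map a (homOfLE h) m).symm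
        (QCohLib.app_map b (homOfLE h) n).symm))

/-- The powers of a form. -/
theorem exists_pow_form {L : X.Modules} (a : L ⟶ Coh.structureModule X) : ∀ q : ℕ,
    ∃ j : CohB1.tensorPow L q ⟶ Coh.structureModule X, ∀ (V : X.Opens) (σ : Γ(L, V)),
      (show Γ(X, V) from j.app V (AmpleThLib.pS σ q)) = (show Γ(X, V) from a.app V σ) ^ q
  | 0 => ⟨𝟙 _, fun V σ => (pow_zero (show Γ(X, V) from a.app V σ)).symm⟩
  | q + 1 => by
    obtain ⟨j, hj⟩ := exists_pow_form a q
    obtain ⟨φ, hφ⟩ := exists_tensor_forms j a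
    exact ⟨φ, fun V σ => (hφ V _ _).trans ((congrArg (fun r : Γ(X, V) => r * _) (hj V σ)).trans
      (pow_succ (show Γ(X, V) from a.app V σ) q).symm)⟩

/-- The action of a form on a module. -/
theorem exists_act {M : X.Modules} (ι : E ⟶ M) (b : N ⟶ Coh.structureModule X) :
    ∃ φ : CohB1.tensorMod E N ⟶ M, ∀ (V : X.Opens) (m : Γ(E, V)) (n : Γ(N, V)),
      φ.app V (shT m n) = (show Γ(X, V) from b.app V n) • ι.app V m :=
  GrTildeLib.exists_tens_hom (M := E) (N := N) (P := M)
    (fun V m n => (show Γ(X, V) from b.app V n) • ι.app V m)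
    (fun V m m' n => (congrArg (fun c => (show Γ(X, V) from b.app V n) • c) (map_add (ι.app V).hom m m')).trans
      (smul_add (show Γ(X, V) from b.app V n) _ _))
    (fun V m n n' => (congrArg (fun r : Γ(X, V) => r • ι.app V m) (map_add (b.app V).hom n n')).trans
      (add_smul (show Γ(X, V) from b.app V n) (show Γ(X, V) from b.app V n') _))
    (fun V r m n => (congrArg (fun c => (show Γ(X, V) from b.app V n) • c) (QCohLib.app_smul ι V r m)).trans
      (smul_comm (show Γ(X, V) from b.app V n) r _))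
    (fun V r m n => (congrArg (fun c : Γ(X, V) => c • ι.app V m) (QCohLib.app_smul b V r n)).trans
      (mul_smul r (show Γ(X, V) from b.app V n) _))
    (fun V W h m n => (AmpleLib.res_smul M h (show Γ(X, W) from b.app W n) (ι.app W m)).trans
      (congr_arg₂ (fun (c : Γ(X, V)) z => c • z) (QCohLib.app_map b (homOfLE h) n).symm
        (QCohLib.app_map ι (homOfLE h) m).symm))

end KoszShLib

end
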