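import Groth.Prelude.Def_KoszTw
import Groth.Agent.KoszShLib.Regular
import Groth.Agent.KoszShLib.Tens
import Groth.Agent.FinCovLib.Sec

/-!
# Twisted Koszul complexes
-/

set_option autoImplicit false
set_option linter.style.haveILetI false
set_option backward.isDefEq.respectTransparency false
set_option backward.isDefEq.respectTransparency.types false
universe u

open CategoryTheory CategoryTheory.Limits AlgebraicGeometry TopologicalSpace Opposite exteriorPower
open AmpleLib (res GenOn shT)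

noncomputable section

namespace KoszShLib

variable {X : Scheme.{u}} {F L : X.Modules}

/-- An affine open trivialising both modules. -/
def GoodTw (F L : X.Modules) (U : X.affineOpens) : Prop :=
  (∃ g : Γ(L, U.1), GenOn L g) ∧ ∃ n, Nonempty (Module.Basis (Fin n) Γ(X, U.1) Γ(F, U.1))

theorem isBasisPred_goodTw (hF : FlatMod.IsFinLocFree F) (hL : PicF.IsInvertible L) :
    IsBasisPred (GoodTw F L) := by
  intro x V hx
  haveI : Coh.IsQCoh F := FinLFAnn.isQCoh_of_isFinLocFree hF
  obtain ⟨W₁, g, hxW₁, hg⟩ := TwistLib.exists_genOn hL x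
  obtain ⟨W₂, n, e, hxW₂, he⟩ := ProjFormLib.exists_frame hF x
  obtain ⟨U, hU, hxU, hUV⟩ := exists_isAffineOpen_mem_and_subset (x := x) (U := W₁ ⊓ W₂ ⊓ V) ⟨⟨hxW₁, hxW₂⟩, hx⟩
  refine ⟨⟨U, hU⟩, ⟨⟨_, hg.res (fun y hy => (hUV hy).1.1 : U ≤ W₁)⟩, n, ⟨?_⟩⟩, hxU, fun y hy => (hUV hy).2⟩
  have h : U ≤ W₂ := fun y hy => (hUV hy).1.2
  exact Module.Basis.ofEquivFun (LinearEquiv.ofBijective
    (Fintype.linearCombination Γ(X, U) fun i => ProjFormLib.res F h (e i))
    (FinCovLib.frame_bijective' he hU h)).symm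

theorem shT_smul_left {U : X.Opens} (r : Γ(X, U)) (m : Γ(F, U)) (g : Γ(L, U)) :
    shT (r • m) g = r • shT m g := by
  have h := AmpleLib.shT_smul r 1 m g
  rwa [one_smul, mul_one] at h

theorem tprod_const {U : X.Opens} (g : Γ(L, U)) :
    ∀ q : ℕ, KoszTw.tprod L q U (fun _ => g) = AmpleThLib.pS g q
  | 0 => rfl
  | q + 1 => congrArg (fun a => shT a g) (tprod_const g q)

/-- Tensoring with a generator as a linear equivalence on sections. -/
def tensEquiv (M : X.Modules) {U : X.Opens} {g : Γ(L, U)} (hg : GenOn L g) :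
    Γ(M, U) ≃ₗ[Γ(X, U)] Γ(CohB1.tensorMod M L, U) :=
  LinearEquiv.ofBijective
    { toFun := fun m => shT m g
      map_add' := fun a b => shT_add_left' a b g
      map_smul' := fun r a => shT_smul_left r a g }
    ⟨fun a b h => shT_right_injective hg a b h, fun e => exists_shT_right hg e⟩

theorem tensEquiv_apply (M : X.Modules) {U : X.Opens} {g : Γ(L, U)} (hg : GenOn L g) (m : Γ(M, U)) :
    tensEquiv M hg m = shT m g := rfl

variable {s : F ⟶ Coh.structureModule X} {lam : Coh.structureModule X ⟶ L}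
  {t : CohB1.tensorMod F L ⟶ Coh.structureModule X} (C : KoszSh.Cx F s)
  (D : KoszSh.Cx (CohB1.tensorMod F L) t) {U : X.affineOpens} {g : Γ(L, U.1)} (hg : GenOn L g)

/-- The comparison of exterior powers given by a generator. -/
def twL (p : ℕ) : Γ(C.K.X p, U.1) →ₗ[Γ(X, U.1)] Γ(D.K.X p, U.1) :=
  (D.loc p U).symm.toLinearMap ∘ₗ exteriorPower.map p (tensEquiv F hg).toLinearMap ∘ₗ (C.loc p U).toLinearMap

theorem twL_symm (p : ℕ) (e : Fin p → Γ(F, U.1)) :
    twL C D hg p ((C.loc p U).symm (ιMulti _ p e)) = (D.loc p U).symm (ιMulti _ p fun i => shT (e i) g) := by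
  simp only [twL, LinearMap.comp_apply, LinearEquiv.coe_coe, LinearEquiv.apply_symm_apply,
    exteriorPower.map_apply_ιMulti]
  rfl

theorem twL_bijective (p : ℕ) : Function.Bijective (twL C D hg p) :=
  (D.loc p U).symm.bijective.comp ((bijective_map (tensEquiv F hg) p).comp (C.loc p U).bijective)

include hg in
theorem secForm_eq (htri : KoszTw.TwistTriangle s lam t) {c : Γ(X, U.1)}
    (hc : lam.app U.1 (1 : Γ(X, U.1)) = c • g) (f : Γ(F, U.1)) :
    KoszSh.secForm s U.1 f = KoszSh.secForm t U.1 (shT f g) * c := by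
  have h := htri U.1 f g
  have h1 : lam.app U.1 (t.app U.1 (shT f g)) = (KoszSh.secForm t U.1 (shT f g) * c) • g := by
    rw [mul_smul, ← hc, ← QCohLib.app_smul]
    exact congrArg (lam.app U.1) (mul_one (KoszSh.secForm t U.1 (shT f g))).symm
  refine (hg U.1 le_rfl).1 ?_
  simp only [AmpleLib.res_refl]
  exact h.symm.trans h1

theorem twL_d (htri : KoszTw.TwistTriangle s lam t) {c : Γ(X, U.1)}
    (hc : lam.app U.1 (1 : Γ(X, U.1)) = c • g) (p : ℕ) (z : Γ(C.K.X (p + 1), U.1)) :
    twL C D hg p ((C.K.d (p + 1) p).app U.1 z) = c • (D.K.d (p + 1) p).app U.1 (twL C D hg (p + 1) z) := by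
  refine LinearMap.congr_fun (ext_symm C (a := twL C D hg p ∘ₗ appLin (C.K.d (p + 1) p) U.1)
    (b := c • (appLin (D.K.d (p + 1) p) U.1 ∘ₗ twL C D hg (p + 1))) fun e => ?_) z
  simp only [LinearMap.comp_apply, LinearMap.smul_apply, appLin_apply, twL_symm]
  rw [C.rule p U, D.rule p U]
  simp only [KoszSh.dGen, map_sum, map_smul, twL_symm, Finset.smul_sum, smul_smul]
  refine Finset.sum_congr rfl fun i _ => congrArg (fun r : Γ(X, U.1) => r • _) ?_
  rw [secForm_eq hg htri hc]
  ring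

variable {q : ℕ} (θ : KoszTw.CxDecData C D q)

theorem theta_twL (x : Γ(C.K.X q, U.1)) :
    θ.iso.hom.app U.1 (twL C D hg q x) = shT x (AmpleThLib.pS g q) := by
  refine LinearMap.congr_fun (ext_symm C (a := appLin θ.iso.hom U.1 ∘ₗ twL C D hg q)
    (b := (tensEquiv (C.K.X q) (AmpleThLib.pS_genOn hg q)).toLinearMap) fun e => ?_) x
  simp only [LinearMap.comp_apply, appLin_apply, twL_symm, LinearEquiv.coe_coe]
  refine (θ.rule U e fun _ => g).trans ?_
  rw [tprod_const]
  rfl

theorem tensorMap_shT {M M' N N' : X.Modules} (a : M ⟶ M') (b : N ⟶ N') (V : X.Opens) (m : Γ(M, V)) (n : Γ(N, V)) :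
    (KoszTw.tensorMap a b).app V (shT m n) = shT (a.app V m) (b.app V n) :=
  KoszTw.tensorMap_tmul a b V m n

theorem exists_lam_coeff (lam : Coh.structureModule X ⟶ L) {g : Γ(L, U.1)} (hg : GenOn L g) :
    ∃ c : Γ(X, U.1), lam.app U.1 (1 : Γ(X, U.1)) = c • g := by
  obtain ⟨c, hc⟩ := (hg U.1 le_rfl).2 (lam.app U.1 (1 : Γ(X, U.1)))
  simp only [AmpleLib.res_refl] at hc
  exact ⟨c, hc.symm⟩

include C hg in
theorem isSMulRegular_coeff [Mono lam] {c : Γ(X, U.1)} (hc : lam.app U.1 (1 : Γ(X, U.1)) = c • g)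
    {n : ℕ} (b : Module.Basis (Fin n) Γ(X, U.1) Γ(F, U.1)) (p : ℕ) :
    IsSMulRegular Γ(D.K.X p, U.1) c := by
  have hreg : ∀ r : Γ(X, U.1), c * r = 0 → r = 0 := fun r hr => by
    refine QCohLib.app_injective_of_mono lam U.1 (a₁ := r) ?_
    rw [map_zero]
    have h1 : lam.app U.1 r = r • lam.app U.1 (1 : Γ(X, U.1)) :=
      (congrArg (lam.app U.1) (mul_one r).symm).trans (QCohLib.app_smul lam U.1 r (1 : Γ(X, U.1)))
    rw [h1, hc, smul_smul, mul_comm, hr, zero_smul]
  let B := (b.exteriorPower p).map ((C.loc p U).symm.trans (LinearEquiv.ofBijective _ (twL_bijective C D hg p)))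
  intro a a' h
  refine B.repr.injective (Finsupp.ext fun k => ?_)
  have h' := congrArg (fun z => B.repr z k) h
  simp only [map_smul, Finsupp.smul_apply, smul_eq_mul] at h'
  exact sub_eq_zero.mp (hreg _ (by rw [mul_sub, h', sub_self]))

/-- **The twisted Koszul complexes have the same cycles.** -/
theorem kernelSubobject_eq (hF : FlatMod.IsFinLocFree F) (hL : PicF.IsInvertible L) [Mono lam]
    (htri : KoszTw.TwistTriangle s lam t) (q : ℕ) (θ : KoszTw.CxDecData C D (q + 1)) :
    kernelSubobject (θ.iso.hom ≫ KoszTw.tensorMap (C.K.d (q + 1) q) (𝟙 (CohB1.tensorPow L (q + 1)))) =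
      kernelSubobject (D.K.d (q + 1) q) := by
  have hB := isBasisPred_goodTw hF hL
  set a := θ.iso.hom ≫ KoszTw.tensorMap (C.K.d (q + 1) q) (𝟙 (CohB1.tensorPow L (q + 1))) with ha
  have key : ∀ U : X.affineOpens, GoodTw F L U → ∀ y : Γ(D.K.X (q + 1), U.1),
      a.app U.1 y = 0 ↔ (D.K.d (q + 1) q).app U.1 y = 0 := by
    intro U hU y
    obtain ⟨⟨g, hg⟩, n, ⟨b⟩⟩ := hU
    obtain ⟨c, hc⟩ := exists_lam_coeff lam hg
    obtain ⟨x, rfl⟩ := (twL_bijective C D hg (q + 1)).2 y
    have hg' := AmpleThLib.pS_genOn hg (q + 1)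
    have e : a.app U.1 (twL C D hg (q + 1) x) = shT ((C.K.d (q + 1) q).app U.1 x) (AmpleThLib.pS g (q + 1)) := by
      rw [ha, app_comp_apply, theta_twL, tensorMap_shT]
      rfl
    rw [e]
    constructor
    · intro h
      have h0 : (C.K.d (q + 1) q).app U.1 x = 0 := shT_right_injective hg' _ _ (h.trans (shT_zero_left' _).symm)
      have h1 := twL_d C D hg htri hc q x
      rw [h0, map_zero] at h1
      exact isSMulRegular_coeff C D hg hc b q (h1.symm.trans (smul_zero _).symm)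
    · intro h
      have h1 := twL_d C D hg htri hc q x
      rw [h, smul_zero] at h1
      rw [(twL_bijective C D hg q).1 (h1.trans (map_zero _).symm), shT_zero_left']
  obtain ⟨e, he⟩ := exists_iso_of_monos hB (kernel.ι a) (kernel.ι (D.K.d (q + 1) q))
    (fun U hU s => exists_of_kernel (w := kernel.condition _) (kernelIsKernel _) _
      ((key U hU _).1 (app_zero_of_comp (kernel.condition a) U.1 s)))
    (fun U hU s => exists_of_kernel (w := kernel.condition _) (kernelIsKernel _) _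
      ((key U hU _).2 (app_zero_of_comp (kernel.condition _) U.1 s)))
  exact Subobject.mk_eq_mk_of_comm _ _ e he

/-- **The twisted Koszul complexes have the same boundaries.** -/
theorem imageSubobject_eq (hF : FlatMod.IsFinLocFree F) (hL : PicF.IsInvertible L)
    (htri : KoszTw.TwistTriangle s lam t) (q : ℕ) (θ : KoszTw.CxDecData C D q) :
    imageSubobject (KoszTw.tensorMap (KoszTw.tensorMap (C.K.d (q + 1) q) (𝟙 (CohB1.tensorPow L q))) (𝟙 L)) =
      imageSubobject ((SecTwist.unitorR (D.K.X (q + 1))).inv ≫ KoszTw.tensorMap (D.K.d (q + 1) q) lam ≫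
        KoszTw.tensorMap θ.iso.hom (𝟙 L)) := by
  have hB := isBasisPred_goodTw hF hL
  set a := KoszTw.tensorMap (KoszTw.tensorMap (C.K.d (q + 1) q) (𝟙 (CohB1.tensorPow L q))) (𝟙 L) with ha
  set b := (SecTwist.unitorR (D.K.X (q + 1))).inv ≫ KoszTw.tensorMap (D.K.d (q + 1) q) lam ≫
      KoszTw.tensorMap θ.iso.hom (𝟙 L) with hb
  have hinv : ∀ (V : X.Opens) (y : Γ(D.K.X (q + 1), V)),
      (SecTwist.unitorR (D.K.X (q + 1))).inv.app V y = shT y (1 : Γ(X, V)) := by
    intro V y
    have h1 : (SecTwist.unitorR (D.K.X (q + 1))).hom.app V (shT y (1 : Γ(X, V))) = y :=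
      (SecTwist.unitorR_tmul (D.K.X (q + 1)) V y (1 : Γ(X, V))).trans (one_smul Γ(X, V) y)
    conv_lhs => rw [← h1]
    rw [← app_comp_apply, Iso.hom_inv_id]
    rfl
  have key : ∀ U : X.affineOpens, GoodTw F L U → (∀ w, ∃ y, b.app U.1 y = a.app U.1 w) ∧
      (∀ y, ∃ w, a.app U.1 w = b.app U.1 y) := by
    intro U hU
    obtain ⟨⟨g, hg⟩, -⟩ := hU
    obtain ⟨c, hc⟩ := exists_lam_coeff lam hg
    have e : ∀ x, b.app U.1 (twL C D hg (q + 1) x) = a.app U.1 (shT (shT x (AmpleThLib.pS g q)) g) := by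
      intro x
      obtain ⟨w, hw⟩ := (twL_bijective C D hg q).2 ((D.K.d (q + 1) q).app U.1 (twL C D hg (q + 1) x))
      have h1 := twL_d C D hg htri hc q x
      rw [← hw, ← map_smul] at h1
      rw [hb, app_comp_apply, app_comp_apply, hinv, tensorMap_shT, hc, tensorMap_shT, ← hw, theta_twL, ha,
        tensorMap_shT, tensorMap_shT, (twL_bijective C D hg q).1 h1]
      have h2 := AmpleLib.shT_smul 1 c (shT w (AmpleThLib.pS g q)) g
      rw [one_smul, one_mul] at h2
      refine h2.trans ?_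
      rw [← shT_smul_left, ← shT_smul_left]
      rfl
    refine ⟨fun w => ?_, fun y => ?_⟩
    · obtain ⟨v, rfl⟩ := exists_shT_right hg w
      obtain ⟨x, rfl⟩ := exists_shT_right (AmpleThLib.pS_genOn hg q) v
      exact ⟨_, e x⟩
    · obtain ⟨x, rfl⟩ := (twL_bijective C D hg (q + 1)).2 y
      exact ⟨_, (e x).symm⟩
  have himg : ∀ {A B : X.Modules} (f : A ⟶ B) (V : X.Opens) (w : Γ(A, V)),
      (imageSubobject f).arrow.app V ((factorThruImageSubobject f).app V w) = f.app V w := fun f V w =>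
    congr(Scheme.Modules.Hom.app $(imageSubobject_arrow_comp f) V w)
  refine le_antisymm ?_ ?_
  · obtain ⟨l, hl⟩ := exists_lift hB (imageSubobject b).arrow a fun U hU w => by
      obtain ⟨y, hy⟩ := (key U hU).1 w
      exact ⟨_, (himg b U.1 y).trans hy⟩
    exact imageSubobject_le a l hl
  · obtain ⟨l, hl⟩ := exists_lift hB (imageSubobject a).arrow b fun U hU w => by
      obtain ⟨y, hy⟩ := (key U hU).2 w
      exact ⟨_, (himg a U.1 y).trans hy⟩
    exact imageSubobject_le b l hl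

end KoszShLib

end
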