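import Groth.Agent.KoszShLib.Tools
import Groth.Agent.WedgeLib.Glue

/-!
# Morphisms given on a basis of affine opens
-/

set_option autoImplicit false
set_option linter.style.haveILetI false
set_option backward.isDefEq.respectTransparency false
set_option backward.isDefEq.respectTransparency.types false
universe u

open CategoryTheory CategoryTheory.Limits TopologicalSpace Opposite AlgebraicGeometry
open AmpleLib (res res_res res_smul)

noncomputable section

namespace KoszShLib

variable {X : Scheme.{u}} {Good : X.affineOpens → Prop} (hB : IsBasisPred Good) {M N : X.Modules}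
include hB

theorem ext_basis {W : X.Opens} (s s' : Γ(M, W))
    (h : ∀ (V : X.affineOpens), Good V → ∀ hV : V.1 ≤ W, res M hV s = res M hV s') : s = s' := by
  choose V hV hxV hVW using fun x : W => hB x.1 W x.2
  exact TopCat.Sheaf.eq_of_locally_eq' (⟨M.presheaf, M.isSheaf⟩ : TopCat.Sheaf AddCommGrpCat _)
    (fun x => (V x).1) W (fun x => homOfLE (hVW x)) (fun x hx => Opens.mem_iSup.2 ⟨⟨x, hx⟩, hxV _⟩) s s'
    fun x => h (V x) (hV x) (hVW x)

/-- **A compatible family of linear maps over a basis of affine opens is a morphism.** -/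
theorem exists_hom_basis (f : ∀ U : X.affineOpens, Good U → (Γ(M, U.1) →ₗ[Γ(X, U.1)] Γ(N, U.1)))
    (hf : ∀ (U V : X.affineOpens) (hU : Good U) (hV : Good V) (h : V.1 ≤ U.1) (t : Γ(M, U.1)),
      res N h (f U hU t) = f V hV (res M h t)) :
    ∃ φ : M ⟶ N, ∀ (U : X.affineOpens) (hU : Good U) (t : Γ(M, U.1)), φ.app U.1 t = f U hU t := by
  let P : ∀ {W : X.Opens}, Γ(M, W) → Γ(N, W) → Prop := fun {W} t s =>
    ∀ (V : X.affineOpens) (hV : Good V) (hVW : V.1 ≤ W), res N hVW s = f V hV (res M hVW t)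
  have uniq : ∀ {W : X.Opens} (t : Γ(M, W)) (s s' : Γ(N, W)), P t s → P t s' → s = s' :=
    fun t s s' hs hs' => ext_basis hB s s' fun V hV hVW => (hs V hV hVW).trans (hs' V hV hVW).symm
  have ex : ∀ (W : X.Opens) (t : Γ(M, W)), ∃ s : Γ(N, W), P t s := by
    intro W t
    choose V hV hxV hVW using fun x : W => hB x.1 W x.2
    obtain ⟨s, hs, -⟩ := TopCat.Sheaf.existsUnique_gluing' (⟨N.presheaf, N.isSheaf⟩ : TopCat.Sheaf AddCommGrpCat _)
      (fun x => (V x).1) W (fun x => homOfLE (hVW x)) (fun x hx => Opens.mem_iSup.2 ⟨⟨x, hx⟩, hxV _⟩)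
      (fun x => f (V x) (hV x) (res M (hVW x) t)) (fun x y => by
        refine ext_basis hB (W := (V x).1 ⊓ (V y).1) _ _ fun A hA hA' => ?_
        change res N hA' (res N (inf_le_left : (V x).1 ⊓ (V y).1 ≤ (V x).1) _) =
          res N hA' (res N (inf_le_right : (V x).1 ⊓ (V y).1 ≤ (V y).1) _)
        rw [res_res, res_res, hf (V x) A (hV x) hA (hA'.trans inf_le_left),
          hf (V y) A (hV y) hA (hA'.trans inf_le_right), res_res, res_res])
    refine ⟨s, fun A hA hAW => ?_⟩
    choose B hB' hxB hBle using fun x : A.1 => hB x.1 (A.1 ⊓ (V ⟨x.1, hAW x.2⟩).1) ⟨x.2, hxV _⟩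
    refine TopCat.Sheaf.eq_of_locally_eq' (⟨N.presheaf, N.isSheaf⟩ : TopCat.Sheaf AddCommGrpCat _)
      (fun x => (B x).1) A.1 (fun x => homOfLE ((hBle x).trans inf_le_left))
      (fun x hx => Opens.mem_iSup.2 ⟨⟨x, hx⟩, hxB _⟩) _ _ fun x => ?_
    have h1 : res N (hVW ⟨x.1, hAW x.2⟩) s = f _ (hV _) (res M (hVW ⟨x.1, hAW x.2⟩) t) := hs ⟨x.1, hAW x.2⟩
    have h2 := congrArg (res N ((hBle x).trans inf_le_right)) h1
    rw [res_res, hf (V ⟨x.1, hAW x.2⟩) (B x) (hV _) (hB' x) ((hBle x).trans inf_le_right), res_res] at h2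
    change res N ((hBle x).trans inf_le_left) (res N hAW s) = res N ((hBle x).trans inf_le_left) (f A hA _)
    rw [res_res, hf A (B x) hA (hB' x) ((hBle x).trans inf_le_left), res_res]
    exact h2
  choose β hβ using ex
  have hadd : ∀ (W : X.Opens) (t t' : Γ(M, W)), β W (t + t') = β W t + β W t' := fun W t t' =>
    uniq _ _ _ (hβ W _) fun V hV hVW => by
      change N.presheaf.map (homOfLE hVW).op (β W t + β W t') = f V hV (M.presheaf.map (homOfLE hVW).op (t + t'))
      rw [map_add, map_add, map_add]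
      exact congr_arg₂ (· + ·) (hβ W t V hV hVW) (hβ W t' V hV hVW)
  have hlin : ∀ (W : X.Opens) (r : Γ(X, W)) (t : Γ(M, W)), β W (r • t) = r • β W t := fun W r t =>
    uniq _ _ _ (hβ W _) fun V hV hVW => by
      rw [res_smul, res_smul, map_smul, hβ W t V hV hVW]
  have hnat : ∀ {W W' : X.Opens} (h : W' ≤ W) (t : Γ(M, W)), β W' (res M h t) = res N h (β W t) :=
    fun {W W'} h t => uniq _ _ _ (hβ W' _) fun V hV hVW => by
      rw [res_res, res_res]
      exact hβ W t V hV (hVW.trans h)
  refine ⟨⟨PresheafOfModules.homMk (M₁ := M.val) (M₂ := N.val)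
    { app := fun W => AddCommGrpCat.ofHom
        (AddMonoidHom.mk' (fun t : Γ(M, W.unop) => β W.unop t) (hadd W.unop))
      naturality := fun W W' i => by
        ext t
        exact hnat i.unop.le t }
    (fun W r t => hlin W.unop r t)⟩, fun U hU t => ?_⟩
  have h := hβ U.1 t U hU le_rfl
  rw [AmpleLib.res_refl, AmpleLib.res_refl] at h
  exact h

end KoszShLib

end
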