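import Groth.Agent.KoszShLib.Local
import Groth.Agent.KoszShLib.Tens
import Groth.Agent.HilbObsLib.Sections
import Groth.Agent.SweepSix.ConormalSpec

/-!
# The homology of the Koszul complex of twisted divisors
-/

set_option autoImplicit false
set_option linter.style.haveILetI false
set_option backward.isDefEq.respectTransparency false
set_option backward.isDefEq.respectTransparency.types false
universe u

open CategoryTheory CategoryTheory.Limits AlgebraicGeometry TopologicalSpace Opposite exteriorPower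
open AmpleLib (res GenOn shT)

noncomputable section

namespace KoszShLib

variable {X : Scheme.{u}}

theorem pullback_app_ext {A B S : X.Modules} (f : A ⟶ S) (g : B ⟶ S) {U : X.Opens} (a b : Γ(Limits.pullback f g, U))
    (h₁ : (pullback.fst f g).app U a = (pullback.fst f g).app U b)
    (h₂ : (pullback.snd f g).app U a = (pullback.snd f g).app U b) : a = b := by
  let pr := biprod.lift (pullback.fst f g) (pullback.snd f g)
  haveI : Mono pr := ⟨fun u v huv => pullback.hom_ext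
    (by simpa [pr] using congrArg (fun w => w ≫ biprod.fst) huv)
    (by simpa [pr] using congrArg (fun w => w ≫ biprod.snd) huv)⟩
  refine QCohLib.app_injective_of_mono pr U ?_
  have e : ∀ z, pr.app U z = (biprod.inl : A ⟶ A ⊞ B).app U ((pullback.fst f g).app U z) +
      (biprod.inr : B ⟶ A ⊞ B).app U ((pullback.snd f g).app U z) := fun z => by
    simp only [pr, biprod.lift_eq]
    rfl
  rw [e, e, h₁, h₂]

variable {n : ℕ} (IY : Fin n → X.IdealSheafData) (hY : ∀ i, BlowUp.IsEffCartierIdeal (IY i))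
  (ID : X.IdealSheafData) (hD : BlowUp.IsEffCartierIdeal ID)
  (C : KoszSh.Cx (∐ fun i => ClSub.idealMod (IY i)) (Limits.Sigma.desc fun i => ClSub.idealModι (IY i)))
  (C' : KoszSh.Cx (∐ fun i => ClSub.idealMod (IY i * ID)) (Limits.Sigma.desc fun i => ClSub.idealModι (IY i * ID)))
  (q : ℕ)

theorem unit_app_eq_zero_iff {M : X.Modules} [Coh.IsQCoh M] {U : X.affineOpens} {τ : Γ(ClSub.idealMod ID, U.1)}
    (hτ : GenOn _ τ) (m : Γ(M, U.1)) :
    ((Scheme.Modules.pullbackPushforwardAdjunction ID.subschemeι).unit.app M).app U.1 m = 0 ↔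
      ∃ w : Γ(M, U.1), val ID τ • w = m := by
  refine ((HilbObsLib.puSec_closed ID.subschemeι M U.2).2 m).trans ?_
  rw [ID.ker_subschemeι_app U, ideal_eq_span hτ, Submodule.ideal_span_singleton_smul]
  exact ⟨fun h => by obtain ⟨w, -, hw⟩ := h; exact ⟨w, hw⟩, fun ⟨w, hw⟩ => ⟨w, trivial, hw⟩⟩

include hY hD in
theorem nonempty_iso
    (hreg : ∀ (U : X.affineOpens) (x : Γ(X, U.1)), x ∈ nonZeroDivisors Γ(X, U.1) → ID.ideal U = Ideal.span {x} →
      IsSMulRegular Γ(C.K.homology q, U.1) x) :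
    Nonempty (C'.K.homology q ≅ CohB1.tensorMod
      (Limits.pullback
        ((Scheme.Modules.pullback ID.subschemeι ⋙ Scheme.Modules.pushforward ID.subschemeι).map (C.K.homologyπ q))
        ((Scheme.Modules.pullbackPushforwardAdjunction ID.subschemeι).unit.app (C.K.homology q)))
      (CohB1.tensorPow (ClSub.idealMod ID) q)) := by
  classical
  haveI : Coh.IsQCoh (∐ fun i => ClSub.idealMod (IY i)) :=
    isQCoh_sigmaFin _ fun i => SweepSix.ConormalSpec.isQCoh_idealMod _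
  haveI : Coh.IsQCoh (∐ fun i => ClSub.idealMod (IY i * ID)) :=
    isQCoh_sigmaFin _ fun i => SweepSix.ConormalSpec.isQCoh_idealMod _
  haveI := isQCoh_term C
  haveI := isQCoh_term C'
  have hB := isBasisPred_good IY ID hY hD
  choose j hj using fun i => exists_incl (IY i) ID
  have hf : Limits.Sigma.map j ≫ (Limits.Sigma.desc fun i => ClSub.idealModι (IY i)) =
      Limits.Sigma.desc fun i => ClSub.idealModι (IY i * ID) := Sigma.hom_ext _ _ fun i => by simp [hj i]
  obtain ⟨φ, hφ, -⟩ := existsUnique_map (Limits.Sigma.map j) C' C hf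
  obtain ⟨jq, hjq⟩ := exists_pow_form (ClSub.idealModι ID) q
  let N := CohB1.tensorPow (ClSub.idealMod ID) q
  let Z := C.K.cycles q
  haveI : Coh.IsQCoh Z := isQCoh_cycles C.K q
  haveI : Coh.IsQCoh (C.K.homology q) := isQCoh_homology C.K q
  obtain ⟨μ, hμ⟩ := exists_act (N := N) (C.K.iCycles q) jq
  let χ : C'.K.cycles q ⟶ C.K.X q := C'.K.iCycles q ≫ φ.f q
  have hscal := fun {U : X.affineOpens} (hU : Good IY ID U) (τ : Γ(ClSub.idealMod ID, U.1)) (hτ : GenOn _ τ) (p : ℕ) =>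
    exists_scaling IY ID C C' hj hφ hU hτ p
  have hinj : ∀ {U : X.affineOpens}, Good IY ID U → ∀ p, Function.Injective ((φ.f p).app U.1) := by
    intro U hU p
    obtain ⟨τ, hτ⟩ := hU.2
    obtain ⟨hr, L, hL, hLφ⟩ := hscal hU τ hτ p
    intro a b h
    rw [hLφ, hLφ] at h
    exact hL.1 ((hr.pow p) h)
  have hμU : ∀ {U : X.Opens} (τ : Γ(ClSub.idealMod ID, U)) (z : Γ(Z, U)),
      μ.app U (shT z (AmpleThLib.pS τ q)) = val ID τ ^ q • (C.K.iCycles q).app U z := fun τ z => by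
    rw [hμ, hjq]
    rfl
  haveI : Mono μ := Preadditive.mono_of_cancel_zero _ fun {W} g hg => hom_zero_of_basis hB g fun U hU w => by
    obtain ⟨τ, hτ⟩ := hU.2
    obtain ⟨z, hz⟩ := exists_shT_right (AmpleThLib.pS_genOn hτ q) (g.app U.1 w)
    have h0 := app_zero_of_comp hg U.1 w
    rw [← hz, hμU] at h0
    obtain ⟨hr, -⟩ := hscal hU τ hτ q
    have h1 : (C.K.iCycles q).app U.1 z = 0 := (hr.pow q) (h0.trans (smul_zero _).symm)
    have h2 : z = 0 := iCycles_injective C.K q U.1 (h1.trans (map_zero _).symm)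
    rw [← hz, h2, shT_zero_left']
  haveI : Mono χ := Preadditive.mono_of_cancel_zero _ fun {W} g hg => hom_zero_of_basis hB g fun U hU w => by
    refine iCycles_injective C'.K q U.1 (hinj hU q ?_)
    simp only [map_zero]
    exact app_zero_of_comp hg U.1 w
  obtain ⟨θ, hθ⟩ := exists_iso_of_monos hB μ χ (fun U hU s => by
      obtain ⟨τ, hτ⟩ := hU.2
      obtain ⟨z, rfl⟩ := exists_shT_right (AmpleThLib.pS_genOn hτ q) s
      obtain ⟨-, L, hL, hLφ⟩ := hscal hU τ hτ q
      obtain ⟨a, ha⟩ := hL.2 ((C.K.iCycles q).app U.1 z)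
      have hd : ∀ k, (C'.K.d q k).app U.1 a = 0 := fun k => hinj hU k (by
        rw [map_zero, ← app_comp_apply, ← φ.comm q k, app_comp_apply, hLφ, ha, QCohLib.app_smul,
          app_zero_of_comp (C.K.iCycles_d q k), smul_zero])
      obtain ⟨z', hz'⟩ := exists_cycle C'.K q a hd
      exact ⟨z', by rw [hμU, app_comp_apply, hz', hLφ, ha]⟩)
    (fun U hU t => by
      obtain ⟨τ, hτ⟩ := hU.2
      obtain ⟨hr, L, hL, hLφ⟩ := hscal hU τ hτ q
      obtain ⟨z, hz⟩ := exists_cycle C.K q (L ((C'.K.iCycles q).app U.1 t)) fun k => by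
        obtain ⟨hrk, -⟩ := hscal hU τ hτ k
        refine (hrk.pow q) ?_
        simp only [smul_zero]
        rw [← QCohLib.app_smul, ← hLφ, ← app_comp_apply, φ.comm q k, app_comp_apply,
          app_zero_of_comp (C'.K.iCycles_d q k), map_zero]
      exact ⟨shT z (AmpleThLib.pS τ q), by rw [hμU, hz, app_comp_apply, hLφ]⟩)
  let κ : CohB1.tensorMod Z N ⟶ C'.K.homology q := θ.hom ≫ C'.K.homologyπ q
  let η := (Scheme.Modules.pullbackPushforwardAdjunction ID.subschemeι).unit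
  let F := Scheme.Modules.pullback ID.subschemeι ⋙ Scheme.Modules.pushforward ID.subschemeι
  let ρ : Z ⟶ Limits.pullback (F.map (C.K.homologyπ q)) (η.app (C.K.homology q)) :=
    pullback.lift (η.app Z) (C.K.homologyπ q) (η.naturality (C.K.homologyπ q)).symm
  have hρ₁ : ∀ {U : X.Opens} z, (pullback.fst (F.map (C.K.homologyπ q)) (η.app (C.K.homology q))).app U (ρ.app U z) =
      (η.app Z).app U z := fun z => congr(Scheme.Modules.Hom.app $(pullback.lift_fst _ _ _) _ z)
  have hρ₂ : ∀ {U : X.Opens} z, (pullback.snd (F.map (C.K.homologyπ q)) (η.app (C.K.homology q))).app U (ρ.app U z) =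
      (C.K.homologyπ q).app U z := fun z => congr(Scheme.Modules.Hom.app $(pullback.lift_snd _ _ _) _ z)
  obtain ⟨σ, hσ⟩ := exists_tensor_map ρ N
  haveI : Epi σ := epi_of_basis hB σ fun U hU s => by
    obtain ⟨τ, hτ⟩ := hU.2
    obtain ⟨p, rfl⟩ := exists_shT_right (AmpleThLib.pS_genOn hτ q) s
    obtain ⟨(z₀ : Γ(Z, U.1)), hz₀⟩ := DefClassLib.unit_app_surjective (c := ID.subschemeι) (M := Z) U.2
      ((pullback.fst (F.map (C.K.homologyπ q)) (η.app (C.K.homology q))).app U.1 p)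
    let h : Γ(C.K.homology q, U.1) :=
      (pullback.snd (F.map (C.K.homologyπ q)) (η.app (C.K.homology q))).app U.1 p
    have h0 : (η.app (C.K.homology q)).app U.1 ((C.K.homologyπ q).app U.1 z₀ - h) = 0 := by
      rw [map_sub, sub_eq_zero]
      refine (congr(Scheme.Modules.Hom.app $(η.naturality (C.K.homologyπ q)) U.1 z₀)).trans ?_
      refine Eq.trans ?_ (congr(Scheme.Modules.Hom.app $(pullback.condition (f := F.map (C.K.homologyπ q))
        (g := η.app (C.K.homology q))) U.1 p))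
      exact congrArg ((F.map (C.K.homologyπ q)).app U.1) hz₀
    obtain ⟨u, hu⟩ := (unit_app_eq_zero_iff ID hτ _).1 h0
    obtain ⟨w, rfl⟩ := homologyπ_surjective C.K q U.2 u
    refine ⟨shT (z₀ - val ID τ • w) (AmpleThLib.pS τ q), ?_⟩
    rw [hσ]
    congr 1
    refine pullback_app_ext _ _ _ _ ?_ ?_
    · rw [hρ₁, map_sub, (unit_app_eq_zero_iff ID hτ (val ID τ • w)).2 ⟨w, rfl⟩, sub_zero]
      exact hz₀
    · rw [hρ₂, map_sub, QCohLib.app_smul, hu, sub_sub_cancel]
  refine exists_iso_of_epis hB κ σ fun U hU s => ?_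
  obtain ⟨τ, hτ⟩ := hU.2
  have hg := AmpleThLib.pS_genOn hτ q
  obtain ⟨z, rfl⟩ := exists_shT_right hg s
  obtain ⟨hr, L, hL, hLφ⟩ := hscal hU τ hτ q
  obtain ⟨hr₁, L₁, hL₁, hLφ₁⟩ := hscal hU τ hτ (q + 1)
  let a := (C'.K.iCycles q).app U.1 (θ.hom.app U.1 (shT z (AmpleThLib.pS τ q)))
  have hLa : L a = (C.K.iCycles q).app U.1 z := (hr.pow q) ((hLφ a).symm.trans
    ((congr(Scheme.Modules.Hom.app $hθ U.1 (shT z (AmpleThLib.pS τ q)))).trans (hμU τ z)))
  have hd : ∀ c, L ((C'.K.d (q + 1) q).app U.1 c) = val ID τ • (C.K.d (q + 1) q).app U.1 (L₁ c) := fun c => by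
    refine (hr.pow q) ?_
    simp only []
    rw [← hLφ, ← app_comp_apply, ← φ.comm (q + 1) q, app_comp_apply, hLφ₁, QCohLib.app_smul, pow_succ, mul_smul]
  have hκ : κ.app U.1 (shT z (AmpleThLib.pS τ q)) = 0 ↔
      ∃ c, val ID τ • (C.K.d (q + 1) q).app U.1 c = (C.K.iCycles q).app U.1 z := by
    refine (homologyπ_eq_zero_iff C'.K q U.2 _).trans ⟨fun ⟨c, hc⟩ => ⟨L₁ c, ?_⟩, fun ⟨c, hc⟩ => ?_⟩
    · rw [← hd, hc]
      exact hLa
    · obtain ⟨c', rfl⟩ := hL₁.2 c
      exact ⟨c', hL.1 (((hd c').trans hc).trans hLa.symm)⟩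
  have hπreg := hreg U (val ID τ) (val_mem_nonZeroDivisors hτ) (ideal_eq_span hτ)
  have hρz : σ.app U.1 (shT z (AmpleThLib.pS τ q)) = 0 ↔
      (∃ w, val ID τ • w = z) ∧ ∃ c, (C.K.d (q + 1) q).app U.1 c = (C.K.iCycles q).app U.1 z := by
    rw [hσ, ← unit_app_eq_zero_iff ID hτ, ← homologyπ_eq_zero_iff C.K q U.2]
    refine ⟨fun h => ?_, fun ⟨h₁, h₂⟩ => ?_⟩
    · have h' : ρ.app U.1 z = 0 := shT_right_injective hg _ _ (h.trans (shT_zero_left' _).symm)
      exact ⟨(hρ₁ z).symm.trans (by rw [h', map_zero]), (hρ₂ z).symm.trans (by rw [h', map_zero])⟩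
    · rw [show ρ.app U.1 z = 0 from pullback_app_ext _ _ _ _ ((hρ₁ z).trans (h₁.trans (map_zero _).symm))
        ((hρ₂ z).trans (h₂.trans (map_zero _).symm)), shT_zero_left']
  rw [hκ, hρz]
  constructor
  · rintro ⟨c, hc⟩
    obtain ⟨z₁, hz₁⟩ := exists_cycle C.K q ((C.K.d (q + 1) q).app U.1 c)
      fun k => app_zero_of_comp (C.K.d_comp_d (q + 1) q k) U.1 c
    refine ⟨⟨z₁, iCycles_injective C.K q U.1 ?_⟩, val ID τ • c, by rw [QCohLib.app_smul, hc]⟩
    rw [QCohLib.app_smul, hz₁, hc]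
  · rintro ⟨⟨w, rfl⟩, c, hc⟩
    have h1 : (C.K.homologyπ q).app U.1 (val ID τ • w) = 0 := (homologyπ_eq_zero_iff C.K q U.2 _).2 ⟨c, hc⟩
    rw [QCohLib.app_smul] at h1
    obtain ⟨c₁, hc₁⟩ := (homologyπ_eq_zero_iff C.K q U.2 w).1 (hπreg (h1.trans (smul_zero _).symm))
    exact ⟨c₁, by rw [hc₁, QCohLib.app_smul]⟩

end KoszShLib

end
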