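import Groth.Agent.KoszShLib.CopiesAlg
import Groth.Agent.KoszShLib.Glue
import Groth.Agent.KoszShLib.Main
import Groth.Agent.KoszShLib.Regular
import Groth.Agent.CubeConsLib.IsoCls

/-!
# Koszul complexes of several copies of one divisor
-/

set_option autoImplicit false
set_option linter.style.haveILetI false
set_option backward.isDefEq.respectTransparency false
set_option backward.isDefEq.respectTransparency.types false
universe u

open CategoryTheory CategoryTheory.Limits AlgebraicGeometry TopologicalSpace Opposite exteriorPower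
open AmpleLib (res GenOn shT)
open KoszDetLib (D Kz proj)

noncomputable section

namespace KoszShLib

variable {X : Scheme.{u}}

/-- An affine open over which the divisor is principal. -/
def GoodI (I : X.IdealSheafData) (U : X.affineOpens) : Prop :=
  ∃ σ : Γ(ClSub.idealMod I, U.1), GenOn _ σ

theorem isBasisPred_goodI {I : X.IdealSheafData} (hI : BlowUp.IsEffCartierIdeal I) : IsBasisPred (GoodI I) :=
  fun x V hx => by
    obtain ⟨U, hU, h⟩ := isBasisPred_good (n := 0) Fin.elim0 I (fun i => i.elim0) hI x V hx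
    exact ⟨U, hU.2, h⟩

/-- The standard basis of sections of a free module. -/
theorem exists_free_basis (m : ℕ) (U : X.Opens) :
    ∃ b : Module.Basis (Fin m) Γ(X, U) Γ(FlatMod.freeMod X m, U),
      ∀ i, b i = (Sigma.ι (fun _ : Fin m => Coh.structureModule X) i).app U (1 : Γ(X, U)) :=
  exists_sigma_basis (M := fun _ : Fin m => Coh.structureModule X) fun _ => AmpleLib.one_genOn U

/-- The standard basis. -/
def freeBasis (m : ℕ) (U : X.Opens) : Module.Basis (Fin m) Γ(X, U) Γ(FlatMod.freeMod X m, U) :=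
  (exists_free_basis m U).choose

theorem freeBasis_res (m : ℕ) {U V : X.Opens} (h : V ≤ U) (i : Fin m) :
    res (FlatMod.freeMod X m) h (freeBasis m U i) = freeBasis m V i := by
  rw [freeBasis, freeBasis, (exists_free_basis m U).choose_spec, (exists_free_basis m V).choose_spec]
  refine (QCohLib.app_map (Sigma.ι (fun _ : Fin m => Coh.structureModule X) i) (homOfLE h) _).symm.trans ?_
  exact congrArg _ (map_one (X.presheaf.map (homOfLE h).op).hom)

variable (n : ℕ) (I : X.IdealSheafData)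

/-- The sum of copies. -/
abbrev copies : X.Modules := ∐ fun _ : Fin n => ClSub.idealMod I

/-- Its cosection. -/
abbrev copiesForm : copies n I ⟶ Coh.structureModule X :=
  Limits.Sigma.desc fun _ : Fin n => ClSub.idealModι I

/-- The vectors `ι_(i+1) σ - ι_0 σ`. -/
def lam {U : X.Opens} (σ : Γ(ClSub.idealMod I, U)) :
    Γ(FlatMod.freeMod X (n - 1), U) →ₗ[Γ(X, U)] Γ(copies n I, U) :=
  (freeBasis (n - 1) U).constr Γ(X, U) fun i =>
    (Sigma.ι (fun _ : Fin n => ClSub.idealMod I) ⟨i.1 + 1, by have := i.isLt; omega⟩).app U σ -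
      (Sigma.ι (fun _ : Fin n => ClSub.idealMod I) ⟨0, by have := i.isLt; omega⟩).app U σ

theorem lam_smul {U : X.Opens} (c : Γ(X, U)) (σ : Γ(ClSub.idealMod I, U)) : lam n I (c • σ) = c • lam n I σ :=
  (freeBasis (n - 1) U).ext fun i => by
    simp [lam, QCohLib.app_smul, smul_sub]

theorem lam_res {U V : X.Opens} (h : V ≤ U) (σ : Γ(ClSub.idealMod I, U)) (v : Γ(FlatMod.freeMod X (n - 1), U)) :
    res (copies n I) h (lam n I σ v) = lam n I (res _ h σ) (res _ h v) := by
  conv_lhs => rw [← (freeBasis (n - 1) U).sum_equivFun v]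
  conv_rhs => rw [← (freeBasis (n - 1) U).sum_equivFun v]
  simp only [map_sum, map_smul, AmpleLib.res, QCohLib.map_smul']
  refine Finset.sum_congr rfl fun i _ => congrArg (_ • ·) ?_
  rw [show (FlatMod.freeMod X (n - 1)).presheaf.map (homOfLE h).op (freeBasis (n - 1) U i) = freeBasis (n - 1) V i
    from freeBasis_res _ h i]
  simp only [lam, Module.Basis.constr_basis, map_sub]
  exact congr_arg₂ (· - ·) (QCohLib.app_map _ (homOfLE h) σ).symm (QCohLib.app_map _ (homOfLE h) σ).symm

/-- Over a small open, a basis adapted to the form. -/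
theorem exists_adapted (m : ℕ) {U : X.Opens} {σ : Γ(ClSub.idealMod I, U)} (hσ : GenOn _ σ) :
    ∃ bM : Module.Basis (Fin (m + 1)) Γ(X, U) Γ(copies (m + 1) I, U),
      (∀ i, lam (m + 1) I σ (freeBasis m U i) = bM i.succ) ∧
      KoszSh.secForm (copiesForm (m + 1) I) U (bM 0) = val I σ ∧
      ∀ i : Fin m, KoszSh.secForm (copiesForm (m + 1) I) U (bM i.succ) = 0 := by
  obtain ⟨b, hb⟩ := exists_sigma_basis (M := fun _ : Fin (m + 1) => ClSub.idealMod I) fun _ => hσ
  let v : Fin (m + 1) → Γ(copies (m + 1) I, U) := Fin.cons (b 0) fun i => b i.succ - b 0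
  have hsp : ⊤ ≤ Submodule.span Γ(X, U) (Set.range v) := by
    rw [← b.span_eq, Submodule.span_le]
    rintro _ ⟨i, rfl⟩
    induction i using Fin.cases with
    | zero => exact Submodule.subset_span ⟨0, by simp [v]⟩
    | succ i =>
      have : b i.succ = v i.succ + v 0 := by simp [v]
      rw [this]
      exact add_mem (Submodule.subset_span ⟨_, rfl⟩) (Submodule.subset_span ⟨_, rfl⟩)
  have hli : LinearIndependent Γ(X, U) v := by
    rw [Fintype.linearIndependent_iff]
    intro g hg
    have h : ∀ j, b.repr (∑ i, g i • v i) j = 0 := fun j => by rw [hg, map_zero]; rfl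
    have hs : ∀ j : Fin m, g j.succ = 0 := fun j => by
      have := h j.succ
      simpa [v, Fin.sum_univ_succ, Finsupp.single_apply, smul_sub, eq_comm, Fin.succ_ne_zero] using this
    intro i
    induction i using Fin.cases with
    | zero =>
      have := h 0
      simpa [v, Fin.sum_univ_succ, Finsupp.single_apply, hs, Fin.succ_ne_zero] using this
    | succ i => exact hs i
  have hval : ∀ i, KoszSh.secForm (copiesForm (m + 1) I) U (b i) = val I σ := fun i => by
    show (copiesForm (m + 1) I).app U (b i) = (ClSub.idealModι I).app U σ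
    rw [hb i, ← app_comp_apply, Sigma.ι_desc]
  refine ⟨Module.Basis.mk hli hsp, fun i => ?_, ?_, fun i => ?_⟩
  · rw [Module.Basis.mk_apply, show v i.succ = b i.succ - b 0 by simp [v], hb, hb, lam]
    exact (freeBasis m U).constr_basis _ _ i
  · rw [Module.Basis.mk_apply, show v 0 = b 0 by simp [v], hval]
  · rw [Module.Basis.mk_apply, show v i.succ = b i.succ - b 0 by simp [v], map_sub, hval, hval, sub_self]

variable {n I} (C : KoszSh.Cx (copies n I) (copiesForm n I))

/-- The cycles made from a generator. -/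
def psiSec (q : ℕ) {L : X.Modules}
    (φL : ∀ U : X.affineOpens, Γ(L, U.1) ≃ₗ[Γ(X, U.1)] ↥(⋀[Γ(X, U.1)]^q Γ(FlatMod.freeMod X (n - 1), U.1)))
    (U : X.affineOpens) (σ : Γ(ClSub.idealMod I, U.1)) : Γ(L, U.1) →ₗ[Γ(X, U.1)] Γ(C.K.X q, U.1) :=
  (C.loc q U).symm.toLinearMap ∘ₗ exteriorPower.map q (lam n I σ) ∘ₗ (φL U).toLinearMap

variable {q : ℕ} {L : X.Modules}
  (φL : ∀ U : X.affineOpens, Γ(L, U.1) ≃ₗ[Γ(X, U.1)] ↥(⋀[Γ(X, U.1)]^q Γ(FlatMod.freeMod X (n - 1), U.1)))

theorem psiSec_smul (U : X.affineOpens) (c : Γ(X, U.1)) (σ : Γ(ClSub.idealMod I, U.1)) (l : Γ(L, U.1)) :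
    psiSec C q φL U (c • σ) l = c ^ q • psiSec C q φL U σ l := by
  simp only [psiSec, LinearMap.comp_apply, LinearEquiv.coe_coe, lam_smul, ← map_smul]
  congr 1
  refine LinearMap.congr_fun (show exteriorPower.map q (c • lam n I σ) = c ^ q • exteriorPower.map q (lam n I σ) from
    exteriorPower.linearMap_ext (AlternatingMap.ext fun v => ?_)) _ |>.trans ?_
  · simp only [LinearMap.compAlternatingMap_apply, LinearMap.smul_apply, exteriorPower.map_apply_ιMulti]
    rw [show (⇑(c • lam n I σ) ∘ v) = fun i => c • (⇑(lam n I σ) ∘ v) i from rfl, AlternatingMap.map_smul_univ]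
    simp [Finset.prod_const]
  · simp

variable (hφL : ∀ (U V : X.affineOpens) (h : V.1 ≤ U.1) (e : Fin q → Γ(FlatMod.freeMod X (n - 1), U.1)),
    res L h ((φL U).symm (ιMulti _ q e)) = (φL V).symm (ιMulti _ q (fun j => res _ h (e j))))

include hφL in
theorem psiSec_res (U V : X.affineOpens) (h : V.1 ≤ U.1) (σ : Γ(ClSub.idealMod I, U.1)) (l : Γ(L, U.1)) :
    res (C.K.X q) h (psiSec C q φL U σ l) = psiSec C q φL V (res _ h σ) (res L h l) := by
  obtain ⟨w, rfl⟩ := (φL U).symm.surjective l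
  have hw : w ∈ Submodule.span Γ(X, U.1) (Set.range (ιMulti Γ(X, U.1) q (M := Γ(FlatMod.freeMod X (n - 1), U.1)))) := by
    rw [exteriorPower.ιMulti_span]; trivial
  induction hw using Submodule.span_induction with
  | mem w hw =>
    obtain ⟨e, rfl⟩ := hw
    rw [hφL]
    simp only [psiSec, LinearMap.comp_apply, LinearEquiv.coe_coe, LinearEquiv.apply_symm_apply,
      exteriorPower.map_apply_ιMulti]
    refine (C.loc_res q U V h _).trans ?_
    exact congrArg (fun v => (C.loc q V).symm (ιMulti _ q v)) (funext fun j => lam_res n I h σ (e j))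
  | zero => simp only [map_zero, AmpleLib.res]
  | add a b _ _ ha hb =>
    simp only [AmpleLib.res, map_add] at ha hb ⊢
    rw [ha, hb]
  | smul r a _ ha =>
    rw [map_smul, map_smul, AmpleLib.res_smul, AmpleLib.res_smul, map_smul, ha]

omit φL in
theorem loc_cycle_iff {m : ℕ} (C : KoszSh.Cx (copies (m + 1) I) (copiesForm (m + 1) I)) (p : ℕ) (U : X.affineOpens)
    (bM : Module.Basis (Fin (m + 1)) Γ(X, U.1) Γ(copies (m + 1) I, U.1)) (z : Γ(C.K.X p, U.1)) :
    D (vals bM (KoszSh.secForm (copiesForm (m + 1) I) U.1)) (theta bM p (C.loc p U z)) = 0 ↔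
      ∀ k, (C.K.d p k).app U.1 z = 0 := by
  cases p with
  | zero =>
    refine ⟨fun _ k => ?_, fun _ => by rw [← proj_theta, KoszDetLib.D_proj_zero]⟩
    rw [C.K.shape 0 k (by simp), app_zero_apply]
  | succ p =>
    rw [D_theta bM _ (dU C U p) (dU_rule C U p), dU_loc]
    constructor
    · intro h k
      by_cases hk : k = p
      · subst hk
        exact (C.loc k U).injective ((theta_injective bM k (h.trans (map_zero _).symm)).trans (map_zero _).symm)
      · rw [C.K.shape (p + 1) k (fun e => hk (Nat.succ_injective e)), app_zero_apply]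
    · intro h
      rw [h p, map_zero, map_zero]

include φL in
theorem psiSec_bijective (U : X.affineOpens) {σ : Γ(ClSub.idealMod I, U.1)} (hσ : GenOn _ σ) :
    Function.Injective (psiSec C q φL U σ) ∧ (∀ l k, (C.K.d q k).app U.1 (psiSec C q φL U σ l) = 0) ∧
      ∀ z, (∀ k, (C.K.d q k).app U.1 z = 0) → ∃ l, psiSec C q φL U σ l = z := by
  cases n with
  | zero =>
    have hE : Subsingleton Γ(copies 0 I, U.1) := by
      obtain ⟨b, -⟩ := exists_sigma_basis (M := fun _ : Fin 0 => ClSub.idealMod I) fun _ => hσ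
      exact b.equivFun.toEquiv.subsingleton
    haveI : IsEmpty (Fin (0 - 1)) := inferInstanceAs (IsEmpty (Fin 0))
    have hF : Subsingleton Γ(FlatMod.freeMod X (0 - 1), U.1) :=
      (freeBasis (0 - 1) U.1).equivFun.toEquiv.subsingleton
    let e : Γ(FlatMod.freeMod X (0 - 1), U.1) ≃ₗ[Γ(X, U.1)] Γ(copies 0 I, U.1) :=
      { lam 0 I σ with invFun := 0, left_inv := fun _ => Subsingleton.elim _ _, right_inv := fun _ => Subsingleton.elim _ _ }
    have hb : Function.Bijective (psiSec C q φL U σ) :=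
      (C.loc q U).symm.bijective.comp ((bijective_map e q).comp (φL U).bijective)
    refine ⟨hb.1, fun l k => ?_, fun z _ => hb.2 z⟩
    by_cases hk : k + 1 = q
    · subst hk
      haveI : Subsingleton ↥(⋀[Γ(X, U.1)]^(k + 1) Γ(copies 0 I, U.1)) := by
        refine ⟨fun a b => ?_⟩
        have : ∀ w : ↥(⋀[Γ(X, U.1)]^(k + 1) Γ(copies 0 I, U.1)), w = 0 := fun w =>
          LinearMap.congr_fun (show LinearMap.id = (0 : ↥(⋀[Γ(X, U.1)]^(k + 1) Γ(copies 0 I, U.1)) →ₗ[Γ(X, U.1)] _)
            from exteriorPower.linearMap_ext (AlternatingMap.ext fun v => by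
              simp only [LinearMap.compAlternatingMap_apply, LinearMap.id_apply, LinearMap.zero_apply]
              exact (ιMulti _ (k + 1)).map_coord_zero 0 (Subsingleton.elim _ _))) w
        rw [this a, this b]
      rw [show psiSec C (k + 1) φL U σ l = 0 from (C.loc (k + 1) U).injective (Subsingleton.elim _ _), map_zero]
    · rw [C.K.shape q k hk, app_zero_apply]
  | succ m =>
    obtain ⟨bM, hlam, h0, hsucc⟩ := exists_adapted I m hσ
    refine ⟨(C.loc q U).symm.injective.comp
      ((map_lam_injective bM (freeBasis m U.1) (lam (m + 1) I σ) hlam q).comp (φL U).injective),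
      fun l => (loc_cycle_iff C q U bM _).1 ?_, fun z hz => ?_⟩
    · simp only [psiSec, LinearMap.comp_apply, LinearEquiv.coe_coe, LinearEquiv.apply_symm_apply]
      exact D_theta_map bM (freeBasis m U.1) _ (lam (m + 1) I σ) hlam hsucc _
    · obtain ⟨w, hw⟩ := exists_map_eq_of_cycle bM (freeBasis m U.1) _ (lam (m + 1) I σ) hlam hsucc
        (h0 ▸ val_mem_nonZeroDivisors hσ) (C.loc q U z) ((loc_cycle_iff C q U bM z).2 hz)
      refine ⟨(φL U).symm w, ?_⟩
      show (C.loc q U).symm (exteriorPower.map q (lam (m + 1) I σ) ((φL U) ((φL U).symm w))) = z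
      rw [LinearEquiv.apply_symm_apply, hw, LinearEquiv.symm_apply_apply]

/-- **The cycles of the Koszul complex of copies of a divisor.** -/
theorem nonempty_cycles_iso (hI : BlowUp.IsEffCartierIdeal I) (C : KoszSh.Cx (copies n I) (copiesForm n I)) (q : ℕ)
    {L : X.Modules} (hL : ExtPow.IsExtPow q (FlatMod.freeMod X (n - 1)) L) :
    Nonempty (C.K.cycles q ≅ CohB1.tensorMod L (CohB1.tensorPow (ClSub.idealMod I) q)) := by
  obtain ⟨φL, hφL⟩ := hL
  have hB := isBasisPred_goodI hI
  let N := CohB1.tensorPow (ClSub.idealMod I) q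
  let σ : ∀ U, GoodI I U → Γ(ClSub.idealMod I, U.1) := fun U hU => hU.choose
  have hσ : ∀ U hU, GenOn _ (σ U hU) := fun U hU => hU.choose_spec
  let e : ∀ U (hU : GoodI I U), Γ(L, U.1) →ₗ[Γ(X, U.1)] Γ(CohB1.tensorMod L N, U.1) := fun U hU =>
    { toFun := fun l => shT l (AmpleThLib.pS (σ U hU) q)
      map_add' := fun a b => shT_add_left' a b _
      map_smul' := fun r a => by
        have := AmpleLib.shT_smul r 1 a (AmpleThLib.pS (σ U hU) q)
        rwa [one_smul, mul_one] at this }
  have he : ∀ U hU, Function.Bijective (e U hU) := fun U hU =>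
    ⟨fun a b h => shT_right_injective (AmpleThLib.pS_genOn (hσ U hU) q) a b h,
      fun t => exists_shT_right (AmpleThLib.pS_genOn (hσ U hU) q) t⟩
  let f : ∀ U, GoodI I U → (Γ(CohB1.tensorMod L N, U.1) →ₗ[Γ(X, U.1)] Γ(C.K.X q, U.1)) := fun U hU =>
    psiSec C q φL U (σ U hU) ∘ₗ (LinearEquiv.ofBijective (e U hU) (he U hU)).symm.toLinearMap
  have hfe : ∀ U hU l, f U hU (e U hU l) = psiSec C q φL U (σ U hU) l := fun U hU l => by
    show psiSec C q φL U (σ U hU) ((LinearEquiv.ofBijective (e U hU) (he U hU)).symm (e U hU l)) = _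
    rw [show (LinearEquiv.ofBijective (e U hU) (he U hU)).symm (e U hU l) = l from
      (LinearEquiv.ofBijective (e U hU) (he U hU)).symm_apply_apply l]
  obtain ⟨μ, hμ⟩ := exists_hom_basis hB f fun U V hU hV h t => by
    obtain ⟨l, rfl⟩ := (he U hU).2 t
    obtain ⟨c, hc⟩ := (hσ V hV V.1 le_rfl).2 (res _ h (σ U hU))
    simp only [AmpleLib.res_refl] at hc
    have hres : res _ h (e U hU l) = e V hV (c ^ q • res L h l) := by
      show res _ h (shT l (AmpleThLib.pS (σ U hU) q)) = shT (c ^ q • res L h l) (AmpleThLib.pS (σ V hV) q)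
      rw [AmpleLib.shT_res, AmpleThLib.pS_res, ← hc, AmpleThLib.pS_smul]
      have h1 := AmpleLib.shT_smul 1 (c ^ q) (res L h l) (AmpleThLib.pS (σ V hV) q)
      have h2 := AmpleLib.shT_smul (c ^ q) 1 (res L h l) (AmpleThLib.pS (σ V hV) q)
      rw [one_smul, one_mul] at h1
      rw [one_smul, mul_one] at h2
      exact h1.trans h2.symm
    rw [hres, hfe, hfe, psiSec_res C φL hφL U V h, ← hc, psiSec_smul, map_smul]
  have hkey : ∀ U hU (l : Γ(L, U.1)), μ.app U.1 (e U hU l) = psiSec C q φL U (σ U hU) l :=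
    fun U hU l => (hμ U hU _).trans (hfe U hU l)
  haveI : Mono μ := Preadditive.mono_of_cancel_zero _ fun {W} g hg => hom_zero_of_basis hB g fun U hU w => by
    obtain ⟨l, hl⟩ := (he U hU).2 (g.app U.1 w)
    have h0 := app_zero_of_comp hg U.1 w
    rw [← hl, hkey] at h0
    rw [← hl, (psiSec_bijective C φL U (hσ U hU)).1 (h0.trans (map_zero _).symm), map_zero]
  obtain ⟨θ, -⟩ := exists_iso_of_monos hB (C.K.iCycles q) μ (fun U hU z => by
      obtain ⟨l, hl⟩ := (psiSec_bijective C φL U (hσ U hU)).2.2 _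
        (fun k => app_zero_of_comp (C.K.iCycles_d q k) U.1 z)
      exact ⟨e U hU l, (hkey U hU l).trans hl⟩)
    (fun U hU t => by
      obtain ⟨l, rfl⟩ := (he U hU).2 t
      obtain ⟨z, hz⟩ := exists_cycle C.K q _ ((psiSec_bijective C φL U (hσ U hU)).2.1 l)
      exact ⟨z, hz.trans (hkey U hU l).symm⟩)
  exact ⟨θ⟩

variable {ID : X.IdealSheafData}

/-- The restriction to a divisor commutes with twisting. -/
theorem nonempty_restr_twist (hD : BlowUp.IsEffCartierIdeal ID) (M : X.Modules) [Coh.IsQCoh M] {N : X.Modules}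
    (hN : PicF.IsInvertible N) [Coh.IsQCoh (CohB1.tensorMod M N)] :
    Nonempty ((Scheme.Modules.pullback ID.subschemeι ⋙ Scheme.Modules.pushforward ID.subschemeι).obj
        (CohB1.tensorMod M N) ≅
      CohB1.tensorMod ((Scheme.Modules.pullback ID.subschemeι ⋙ Scheme.Modules.pushforward ID.subschemeι).obj M) N) := by
  let η := (Scheme.Modules.pullbackPushforwardAdjunction ID.subschemeι).unit
  let Good : X.affineOpens → Prop := fun U => GoodI ID U ∧ ∃ g : Γ(N, U.1), GenOn N g
  have hB : IsBasisPred Good := fun x V hx => by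
    obtain ⟨W, g, hxW, hg⟩ := TwistLib.exists_genOn hN x
    obtain ⟨U, hU, hxU, hUV⟩ := isBasisPred_goodI hD x (V ⊓ W) ⟨hx, hxW⟩
    exact ⟨U, ⟨hU, _, hg.res (hUV.trans inf_le_right)⟩, hxU, hUV.trans inf_le_left⟩
  let ηM : M ⟶ (Scheme.Modules.pullback ID.subschemeι ⋙ Scheme.Modules.pushforward ID.subschemeι).obj M := η.app M
  obtain ⟨σ, hσ⟩ := exists_tensor_map ηM N
  haveI : Epi (η.app (CohB1.tensorMod M N)) := DefClassLib.epi_unit ID.subschemeι _
  haveI : Epi σ := epi_of_basis hB σ fun U hU s => by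
    obtain ⟨-, g, hg⟩ := hU
    obtain ⟨p, rfl⟩ := exists_shT_right hg s
    obtain ⟨m, rfl⟩ := DefClassLib.unit_app_surjective (c := ID.subschemeι) (M := M) U.2 p
    exact ⟨shT m g, hσ _ _ _⟩
  refine exists_iso_of_epis hB (η.app (CohB1.tensorMod M N)) σ fun U hU s => ?_
  obtain ⟨⟨τ, hτ⟩, g, hg⟩ := hU
  obtain ⟨m, rfl⟩ := exists_shT_right hg s
  refine (unit_app_eq_zero_iff ID hτ _).trans ?_
  have hsm : ∀ w : Γ(M, U.1), val ID τ • shT w g = shT (val ID τ • w) g := fun w => by
    have := AmpleLib.shT_smul (val ID τ) 1 w g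
    rw [one_smul, mul_one] at this
    exact this.symm
  constructor
  · rintro ⟨w', hw'⟩
    obtain ⟨w, rfl⟩ := exists_shT_right hg w'
    rw [hsm] at hw'
    have hz : ηM.app U.1 m = 0 := by
      rw [← shT_right_injective hg _ _ hw']
      exact (unit_app_eq_zero_iff ID hτ (val ID τ • w)).2 ⟨w, rfl⟩
    refine (hσ U.1 m g).trans ?_
    rw [hz]
    exact shT_zero_left' g
  · intro h
    replace h : shT (ηM.app U.1 m) g = 0 := (hσ U.1 m g).symm.trans h
    obtain ⟨w, hw⟩ := (unit_app_eq_zero_iff ID hτ m).1 (shT_right_injective hg _ _ (h.trans (shT_zero_left' g).symm))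
    exact ⟨shT w g, by rw [hsm, hw]⟩

/-- The homology of the copies of `D` is the restriction of the cycles to `D`. -/
theorem nonempty_homology_iso (hD : BlowUp.IsEffCartierIdeal ID) (m : ℕ)
    (C : KoszSh.Cx (copies (m + 1) ID) (copiesForm (m + 1) ID)) (q : ℕ) {L : X.Modules}
    (hL : ExtPow.IsExtPow q (FlatMod.freeMod X m) L) :
    Nonempty ((Scheme.Modules.pullback ID.subschemeι ⋙ Scheme.Modules.pushforward ID.subschemeι).obj (C.K.cycles q) ≅
      C.K.homology q) := by
  haveI : Coh.IsQCoh (copies (m + 1) ID) := isQCoh_sigmaFin _ fun _ => SweepSix.ConormalSpec.isQCoh_idealMod _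
  haveI := isQCoh_term C
  haveI := isQCoh_cycles C.K q
  obtain ⟨φL, -⟩ := hL
  let η := (Scheme.Modules.pullbackPushforwardAdjunction ID.subschemeι).unit
  haveI : Coh.IsQCoh ((𝟭 X.Modules).obj (C.K.cycles q)) := ‹Coh.IsQCoh (C.K.cycles q)›
  haveI : Epi (η.app (C.K.cycles q)) := DefClassLib.epi_unit ID.subschemeι _
  refine exists_iso_of_epis (isBasisPred_goodI hD) (η.app (C.K.cycles q)) (C.K.homologyπ q) fun U hU z => ?_
  obtain ⟨τ, hτ⟩ := hU
  obtain ⟨bM, hlam, h0, hsucc⟩ := exists_adapted ID m hτ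
  refine ((unit_app_eq_zero_iff ID hτ z).trans ?_).trans (homologyπ_eq_zero_iff C.K q U.2 z).symm
  constructor
  · rintro ⟨w, rfl⟩
    obtain ⟨l, hl⟩ := (psiSec_bijective C φL U hτ).2.2 _ fun k => app_zero_of_comp (C.K.iCycles_d q k) U.1 w
    obtain ⟨c, hc⟩ := exists_d_eq_smul_map bM (freeBasis m U.1) _ (lam (m + 1) ID τ) hlam hsucc (dU C U) (dU_rule C U)
      (φL U l)
    refine ⟨(C.loc (q + 1) U).symm c, (C.loc q U).injective ?_⟩
    rw [← dU_loc, LinearEquiv.apply_symm_apply, hc, h0, QCohLib.app_smul, map_smul, ← hl]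
    simp [psiSec]
    all_goals rfl
  · rintro ⟨c, hc⟩
    obtain ⟨w, hw⟩ := d_eq_smul_map bM (freeBasis m U.1) _ (lam (m + 1) ID τ) hlam hsucc (dU C U) (dU_rule C U)
      (C.loc (q + 1) U c)
    obtain ⟨z', hz'⟩ := exists_cycle C.K q _ ((psiSec_bijective C φL U hτ).2.1 ((φL U).symm w))
    refine ⟨z', iCycles_injective C.K q U.1 ?_⟩
    rw [QCohLib.app_smul, hz', ← hc]
    refine (C.loc q U).injective ?_
    rw [map_smul, ← dU_loc, hw, h0]
    simp [psiSec]
    all_goals exact congrArg (fun v => val ID τ • exteriorPower.map q (lam (m + 1) ID τ) v) ((φL U).apply_symm_apply w)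

end KoszShLib

end
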