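import Groth.Agent.KoszShLib.Model

/-!
# The Koszul complex of a form with a single nonzero value on a basis
-/

set_option autoImplicit false
universe u

open KoszDetLib KRLib exteriorPower

noncomputable section

namespace KoszShLib

variable {Q : Type u} [CommRing Q] {M F : Type u} [AddCommGroup M] [Module Q M] [AddCommGroup F] [Module Q F]
  {m : ℕ} (bM : Module.Basis (Fin (m + 1)) Q M) (bF : Module.Basis (Fin m) Q F) (φ : M →ₗ[Q] Q)
  (lam : F →ₗ[Q] M) (hlam : ∀ i, lam (bF i) = bM i.succ) (hφ : ∀ i : Fin m, φ (bM i.succ) = 0)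

include hlam in
theorem equivFun_lam (v : F) : bM.equivFun (lam v) = Fin.cons 0 (bF.equivFun v) := by
  conv_lhs => rw [← bF.sum_equivFun v]
  simp only [map_sum, map_smul, hlam]
  funext j
  induction j using Fin.cases with
  | zero =>
    simp only [Fin.cons_zero, Finset.sum_apply, Pi.smul_apply, Module.Basis.equivFun_self]
    exact Finset.sum_eq_zero fun i _ => by simp [Fin.succ_ne_zero]
  | succ k =>
    simp only [Fin.cons_succ, Finset.sum_apply, Pi.smul_apply, Module.Basis.equivFun_self]
    rw [Finset.sum_eq_single k]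
    · simp
    · intro i _ hik
      simp [hik]
    · simp

include hlam in
theorem theta_map (q : ℕ) (w : ↥(⋀[Q]^q F)) :
    theta bM q (exteriorPower.map q lam w) = join (theta bF q w, 0) :=
  LinearMap.congr_fun (show theta bM q ∘ₗ exteriorPower.map q lam =
      join ∘ₗ (LinearMap.inl Q (Kz Q m) (Kz Q m) ∘ₗ theta bF q) from exteriorPower.linearMap_ext
    (AlternatingMap.ext fun v => by
      simp only [LinearMap.compAlternatingMap_apply, LinearMap.comp_apply, exteriorPower.map_apply_ιMulti,
        theta_ιMulti, LinearMap.inl_apply]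
      rw [← wedge_shift]
      exact congrArg wedge (funext fun i => equivFun_lam bM bF lam hlam (v i)))) w

include hlam in
theorem map_lam_injective (q : ℕ) : Function.Injective (exteriorPower.map q lam) := fun w w' h =>
  theta_injective bF q (by simpa [theta_map bM bF lam hlam] using congrArg (fun z => pa (theta bM q z)) h)

include hφ in
theorem D_single (x : Kz Q (m + 1)) : D (vals bM φ) x = join (φ (bM 0) • pb x, 0) := by
  have ht : Fin.tail (vals bM φ) = (0 : Q) • (0 : Fin m → Q) := funext fun i => by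
    simp [Fin.tail, vals, hφ]
  refine join_ext ?_ ?_
  · rw [pa_D, ht, D_smul, zero_smul, zero_add]
    rfl
  · rw [pb_D, ht, D_smul, zero_smul, neg_zero]
    rfl

include hlam hφ in
/-- The cycles are the exterior power of the subspace killed by the form. -/
theorem exists_map_eq_of_cycle (hy : φ (bM 0) ∈ nonZeroDivisors Q) {q : ℕ} (z : ↥(⋀[Q]^q M))
    (hz : D (vals bM φ) (theta bM q z) = 0) : ∃ w, exteriorPower.map q lam w = z := by
  have hb : pb (theta bM q z) = 0 := by
    funext s
    have h := congrFun (congrArg pa ((D_single bM φ hφ _).symm.trans hz)) s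
    exact (mem_nonZeroDivisors_iff_left.mp hy) _ h
  obtain ⟨w, hw⟩ := exists_theta_eq bF q (pa (theta bM q z))
  refine ⟨w, theta_injective bM q ?_⟩
  rw [theta_map bM bF lam hlam, hw, ← pa_proj, proj_theta]
  exact join_ext rfl hb.symm

include hlam hφ in
theorem D_theta_map {q : ℕ} (w : ↥(⋀[Q]^q F)) : D (vals bM φ) (theta bM q (exteriorPower.map q lam w)) = 0 := by
  rw [theta_map bM bF lam hlam, D_single bM φ hφ, pb_join, smul_zero]
  exact map_zero join

variable (d : ∀ p, ↥(⋀[Q]^(p + 1) M) →ₗ[Q] ↥(⋀[Q]^p M))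
  (hd : ∀ p e, d p (ιMulti Q (p + 1) e) = KoszSh.dGen φ p e)

include hlam hφ hd in
/-- The boundaries are the multiples of the cycles. -/
theorem d_eq_smul_map {q : ℕ} (c : ↥(⋀[Q]^(q + 1) M)) :
    ∃ w, d q c = φ (bM 0) • exteriorPower.map q lam w := by
  obtain ⟨w, hw⟩ := exists_theta_eq bF q (pb (theta bM (q + 1) c))
  refine ⟨w, theta_injective bM q ?_⟩
  rw [← D_theta bM φ (d q) (hd q), D_single bM φ hφ, map_smul, theta_map bM bF lam hlam, hw, ← pb_proj, proj_theta]
  refine join_ext ?_ ?_
  · rw [map_smul, pa_join, pa_join]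
  · rw [map_smul, pb_join, pb_join, smul_zero]

include hlam hφ hd in
theorem exists_d_eq_smul_map {q : ℕ} (w : ↥(⋀[Q]^q F)) :
    ∃ c, d q c = φ (bM 0) • exteriorPower.map q lam w := by
  obtain ⟨c, hc⟩ := exists_theta_eq bM (q + 1) (join (0, theta bF q w))
  refine ⟨c, theta_injective bM q ?_⟩
  rw [← D_theta bM φ (d q) (hd q), hc, map_smul, theta_map bM bF lam hlam, D_single bM φ hφ, pb_proj, pb_join,
    proj_theta]
  refine join_ext ?_ ?_
  · rw [map_smul, pa_join, pa_join]
  · rw [map_smul, pb_join, pb_join, smul_zero]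

end KoszShLib

end
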