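import Groth.Agent.KoszShLib.Regular
import Groth.Agent.KoszShLib.Glue
import Groth.Agent.ExtPowLib.Sheaf
import Mathlib.LinearAlgebra.CliffordAlgebra.Contraction

/-!
# Existence of the Koszul complex of a cosection
-/

set_option autoImplicit false
set_option linter.style.haveILetI false
set_option backward.isDefEq.respectTransparency false
set_option backward.isDefEq.respectTransparency.types false
set_option maxHeartbeats 1000000
universe u

open CategoryTheory CategoryTheory.Limits AlgebraicGeometry TopologicalSpace Opposite exteriorPower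
open AmpleLib (res res_smul)

noncomputable section

namespace KoszShLib

section Ring

variable {R M : Type u} [CommRing R] [AddCommGroup M] [Module R M] (φ : M →ₗ[R] R)

/-- Contraction on the exterior algebra. -/
abbrev ctr : ExteriorAlgebra R M →ₗ[R] ExteriorAlgebra R M :=
  CliffordAlgebra.contractLeft (Q := (0 : QuadraticForm R M)) φ

theorem ctr_ι_mul (a : M) (b : ExteriorAlgebra R M) :
    ctr φ (ExteriorAlgebra.ι R a * b) = φ a • b - ExteriorAlgebra.ι R a * ctr φ b :=
  CliffordAlgebra.contractLeft_ι_mul φ a b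

theorem ctr_ιMulti : ∀ (p : ℕ) (e : Fin (p + 1) → M),
    ctr φ ((ExteriorAlgebra.ιMulti R (p + 1)) e) =
      ∑ i : Fin (p + 1), ((-1 : R) ^ (i : ℕ) * φ (e i)) • ExteriorAlgebra.ιMulti R p (fun j => e (i.succAbove j))
  | 0, e => by
    rw [ExteriorAlgebra.ιMulti_succ_apply, ctr_ι_mul, ExteriorAlgebra.ιMulti_zero_apply, ctr,
      CliffordAlgebra.contractLeft_one, mul_zero, sub_zero, Fin.sum_univ_one, Fin.val_zero, pow_zero, one_mul,
      ExteriorAlgebra.ιMulti_zero_apply]
  | p + 1, e => by
    rw [ExteriorAlgebra.ιMulti_succ_apply, ctr_ι_mul, ctr_ιMulti p (Matrix.vecTail e), Fin.sum_univ_succ (n := p + 1)]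
    rw [Fin.val_zero, pow_zero, one_mul, sub_eq_add_neg]
    refine congr_arg₂ (· + ·) ?_ ?_
    · exact congrArg (φ (e 0) • ·) (congrArg _ (funext fun j => rfl))
    · rw [Finset.mul_sum, ← Finset.sum_neg_distrib]
      refine Finset.sum_congr rfl fun i _ => ?_
      rw [ExteriorAlgebra.ιMulti_succ_apply (R := R) (v := fun j => e (i.succ.succAbove j)), Algebra.mul_smul_comm,
        ← neg_smul, Fin.val_succ, pow_succ, mul_neg_one, neg_mul, Fin.succ_succAbove_zero]
      refine congrArg (_ • ·) (congrArg (_ * ·) (congrArg _ (funext fun j => ?_)))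
      simp [Matrix.vecTail, Fin.succ_succAbove_succ]

theorem ctr_dGen (p : ℕ) (e : Fin (p + 1) → M) :
    ctr φ (ExteriorAlgebra.ιMulti R (p + 1) e) = (KoszSh.dGen φ p e : ExteriorAlgebra R M) := by
  rw [ctr_ιMulti, KoszSh.dGen, AddSubmonoidClass.coe_finsetSum]
  simp only [SetLike.val_smul, exteriorPower.ιMulti_apply_coe]

/-- The differential of the Koszul complex of a form. -/
theorem exists_koszD (p : ℕ) : ∃ d : ↥(⋀[R]^(p + 1) M) →ₗ[R] ↥(⋀[R]^p M),
    (∀ z, (d z : ExteriorAlgebra R M) = ctr φ z) ∧ ∀ e, d (ιMulti R (p + 1) e) = KoszSh.dGen φ p e := by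
  have h : ∀ z : ↥(⋀[R]^(p + 1) M), ctr φ z ∈ ⋀[R]^p M := fun z => by
    have hz : z ∈ Submodule.span R (Set.range (exteriorPower.ιMulti R (p + 1) (M := M))) := by
      rw [exteriorPower.ιMulti_span]; trivial
    induction hz using Submodule.span_induction with
    | mem a ha =>
      obtain ⟨e, rfl⟩ := ha
      rw [exteriorPower.ιMulti_apply_coe, ctr_dGen]
      exact (KoszSh.dGen φ p e).2
    | zero => rw [Submodule.coe_zero, map_zero]; exact zero_mem _
    | add a b _ _ ha hb => rw [Submodule.coe_add, map_add]; exact add_mem ha hb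
    | smul c a _ ha => rw [SetLike.val_smul, map_smul]; exact Submodule.smul_mem _ c ha
  refine ⟨((ctr φ).comp (Submodule.subtype _)).codRestrict _ h, fun z => rfl, fun e => Subtype.ext ?_⟩
  show ctr φ ((ιMulti R (p + 1) e : ↥(⋀[R]^(p + 1) M)) : ExteriorAlgebra R M) = _
  rw [exteriorPower.ιMulti_apply_coe, ctr_dGen]

/-- The differential. -/
def koszD (p : ℕ) : ↥(⋀[R]^(p + 1) M) →ₗ[R] ↥(⋀[R]^p M) := (exists_koszD φ p).choose

theorem koszD_gen (p : ℕ) (e : Fin (p + 1) → M) : koszD φ p (ιMulti R (p + 1) e) = KoszSh.dGen φ p e :=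
  (exists_koszD φ p).choose_spec.2 e

theorem koszD_comp (p : ℕ) (z : ↥(⋀[R]^(p + 1 + 1) M)) : koszD φ p (koszD φ (p + 1) z) = 0 := Subtype.ext (by
  rw [koszD, (exists_koszD φ p).choose_spec.1, koszD, (exists_koszD φ (p + 1)).choose_spec.1, Submodule.coe_zero]
  exact CliffordAlgebra.contractLeft_contractLeft _ _)

end Ring

variable {X : Scheme.{u}}

theorem isBasisPred_true : IsBasisPred (fun _ : X.affineOpens => True) := fun x V hxV => by
  obtain ⟨U, hU, hxU, hle⟩ := exists_isAffineOpen_mem_and_subset hxV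
  exact ⟨⟨U, hU⟩, trivial, hxU, hle⟩

/-- **Koszul complexes of cosections exist.** -/
theorem exists_cx {E : X.Modules} [Coh.IsQCoh E] (s : E ⟶ Coh.structureModule X) : Nonempty (KoszSh.Cx E s) := by
  choose L _ hL using fun p : ℕ => ExtPowLib.exists_isExtPow (E := E) (n := p)
  choose φ₀ hφ₀ using hL
  let φ : ∀ (p : ℕ) (U : X.affineOpens), Γ(L p, U.1) ≃ₗ[Γ(X, U.1)] ↥(⋀[Γ(X, U.1)]^p Γ(E, U.1)) := fun p U => φ₀ p U
  have hφ : ∀ (p : ℕ) (U V : X.affineOpens) (h : V.1 ≤ U.1) (e : Fin p → Γ(E, U.1)),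
      res (L p) h ((φ p U).symm (ιMulti _ p e)) = (φ p V).symm (ιMulti _ p fun j => res E h (e j)) := hφ₀
  let f : ∀ (p : ℕ) (U : X.affineOpens), Γ(L (p + 1), U.1) →ₗ[Γ(X, U.1)] Γ(L p, U.1) := fun p U =>
    (φ p U).symm.toLinearMap ∘ₗ koszD (KoszSh.secForm s U.1) p ∘ₗ (φ (p + 1) U).toLinearMap
  have hf : ∀ (p : ℕ) (U V : X.affineOpens) (h : V.1 ≤ U.1) (t : Γ(L (p + 1), U.1)),
      res (L p) h (f p U t) = f p V (res (L (p + 1)) h t) := by
    intro p U V h t
    obtain ⟨z, rfl⟩ := (φ (p + 1) U).symm.surjective t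
    have hz : z ∈ Submodule.span Γ(X, U.1) (Set.range (exteriorPower.ιMulti Γ(X, U.1) (p + 1) (M := Γ(E, U.1)))) := by
      rw [exteriorPower.ιMulti_span]; trivial
    induction hz using Submodule.span_induction with
    | mem a ha =>
      obtain ⟨e, rfl⟩ := ha
      rw [hφ (p + 1) U V h e]
      simp only [f, LinearMap.comp_apply, LinearEquiv.coe_coe, LinearEquiv.apply_symm_apply, koszD_gen, KoszSh.dGen,
        map_sum, map_smul, res_smul]
      refine Finset.sum_congr rfl fun i _ => congr_arg₂ (· • ·) ?_ (hφ p U V h _)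
      rw [map_mul, map_pow, map_neg, map_one]
      exact congrArg (_ * ·) (secForm_res s h (e i)).symm
    | zero => simp only [map_zero]
    | add a b _ _ ha hb => simp only [map_add, ha, hb]
    | smul c a _ ha => simp only [map_smul, res_smul, ha]
  choose d hd using fun p => exists_hom_basis (isBasisPred_true (X := X)) (fun U _ => f p U)
    fun U V _ _ h t => hf p U V h t
  have hdd : ∀ p, d (p + 1) ≫ d p = 0 := fun p =>
    hom_zero_of_basis isBasisPred_true _ fun U _ z => by
      rw [app_comp_apply, hd _ U trivial, hd _ U trivial]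
      simp only [f, LinearMap.comp_apply, LinearEquiv.coe_coe, LinearEquiv.apply_symm_apply, koszD_comp, map_zero]
  exact ⟨{ K := ChainComplex.of L d hdd
           loc := φ
           loc_res := hφ₀
           rule := fun p U e => by
             rw [show (ChainComplex.of L d hdd).d (p + 1) p = d p from ChainComplex.of_d L d p]
             refine (hd p U trivial _).trans ?_
             simp only [f, LinearMap.comp_apply, LinearEquiv.coe_coe, LinearEquiv.apply_symm_apply, koszD_gen] }⟩

end KoszShLib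

end
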