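import Groth.Agent.KoszShLib.Regular
import Groth.Agent.KoszShLib.Main
import Groth.Agent.SectFinLib.Basic
import Groth.Agent.S1535
import Groth.Agent.S16235
import Groth.Prelude.Def_RegImm
import Mathlib.AlgebraicGeometry.Properties

/-!
# Regularity of a divisor on the homology over a local complete intersection
-/

set_option autoImplicit false
set_option linter.style.haveILetI false
set_option backward.isDefEq.respectTransparency false
set_option backward.isDefEq.respectTransparency.types false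
universe u

open CategoryTheory CategoryTheory.Limits AlgebraicGeometry TopologicalSpace Opposite exteriorPower
open AmpleLib (res GenOn)

noncomputable section

namespace KoszShLib

/-- In a regular ring, an element outside the minimal primes of a complete intersection is a
non-zero-divisor modulo it. -/
theorem mem_of_mul_mem {A : Type u} [CommRing A] [IsRegularRing A] {c : ℕ} {g : Fin c → A}
    (hg : RingTheory.Sequence.IsWeaklyRegular A (List.ofFn g)) {x : A}
    (hx : ∀ P ∈ (Ideal.span (Set.range g)).minimalPrimes, x ∉ P) (r : A)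
    (hr : x * r ∈ Ideal.span (Set.range g)) : r ∈ Ideal.span (Set.range g) := by
  set I := Ideal.span (Set.range g) with hI
  by_cases htop : I = ⊤
  · rw [htop]; trivial
  by_contra hrI
  have hzd : x ∈ ⋃ p ∈ associatedPrimes A (A ⧸ I), (p : Set A) := by
    rw [biUnion_associatedPrimes_eq_zero_divisors]
    refine ⟨Ideal.Quotient.mk I r, by rwa [Ne, Ideal.Quotient.eq_zero_iff_mem], ?_⟩
    rw [Algebra.smul_def, Ideal.Quotient.algebraMap_eq, ← map_mul, Ideal.Quotient.eq_zero_iff_mem]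
    exact hr
  obtain ⟨P, hP, hxP⟩ := Set.mem_iUnion₂.1 hzd
  haveI := hP.isPrime
  have hht : (c : ℕ∞) ≤ I.height := (Groth.Agent.S16235.result A c g hg htop).ge
  have hPc : P.height ≤ c := SectFinLib.height_le_of_mem_associatedPrimes g hht hP
  obtain ⟨Q, hQ, hQP⟩ := Ideal.exists_minimalPrimes_le (J := P) (LiaisonLib.map_mem_associatedPrimes hP).1
  haveI := hQ.1.1
  haveI : Q.FiniteHeight := (Ideal.finiteHeight_iff Q).2 (Or.inr
    (ne_top_of_le_ne_top (ENat.natCast_ne_top c) ((Ideal.height_mono hQP).trans hPc)))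
  have hQ' : Q = P := Ideal.eq_of_le_of_height_le Q hQP (hPc.trans (hht.trans (Ideal.height_mono hQ.1.2)))
  exact hx Q hQ (hQ' ▸ hxP)

variable {X : Scheme.{u}}

theorem fromSpec_mem (U : X.affineOpens) (p : PrimeSpectrum Γ(X, U.1)) : U.2.fromSpec p ∈ U.1 :=
  U.2.range_fromSpec.le (Set.mem_range_self p)

theorem fromSpec_mem_support_iff (I : X.IdealSheafData) (U : X.affineOpens) (p : PrimeSpectrum Γ(X, U.1)) :
    U.2.fromSpec p ∈ I.support ↔ I.ideal U ≤ p.asIdeal := by
  rw [Scheme.IdealSheafData.mem_support_iff_of_mem (fromSpec_mem U p), ← Set.mem_preimage,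
    U.2.fromSpec_preimage_zeroLocus]
  rfl

theorem ideal_eq_top_of_disjoint (I : X.IdealSheafData) (U : X.affineOpens) (h : ∀ y ∈ U.1, y ∉ I.support) :
    I.ideal U = ⊤ := by
  by_contra hne
  obtain ⟨m, hm, hle⟩ := Ideal.exists_le_maximal _ hne
  exact h _ (fromSpec_mem U ⟨m, hm.isPrime⟩) ((fromSpec_mem_support_iff I U ⟨m, hm.isPrime⟩).2 hle)

variable {n : ℕ} (IY : Fin n → X.IdealSheafData) (ID : X.IdealSheafData)

theorem good_mono {U V : X.affineOpens} (hU : Good IY ID U) (h : V.1 ≤ U.1) : Good IY ID V :=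
  ⟨fun i => ⟨_, (hU.1 i).choose_spec.res h⟩, ⟨_, hU.2.choose_spec.res h⟩⟩

/-- A small affine open on which the intersection is cut out by a regular sequence. -/
def GoodLci (U : X.affineOpens) : Prop :=
  Good IY ID U ∧ ∃ (c : ℕ) (g : Fin c → Γ(X, U.1)),
    RingTheory.Sequence.IsWeaklyRegular Γ(X, U.1) (List.ofFn g) ∧ (⨆ i, IY i).ideal U = Ideal.span (Set.range g)

theorem isBasisPred_goodLci (hY : ∀ i, BlowUp.IsEffCartierIdeal (IY i)) (hD : BlowUp.IsEffCartierIdeal ID)
    (hZ : RegImm.IsRegularImmersion RegImm.Kind.regular (⨆ i, IY i).subschemeι) :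
    IsBasisPred (GoodLci IY ID) := by
  intro x W hxW
  set J := ⨆ i, IY i with hJ
  by_cases hx : x ∈ J.support
  · obtain ⟨z, hz⟩ : x ∈ Set.range J.subschemeι := by rw [Scheme.IdealSheafData.range_subschemeι]; exact hx
    obtain ⟨V₀, hzV₀, -, rs, hrs, hker⟩ := hZ.2 z
    rw [Scheme.IdealSheafData.ker_subschemeι_app] at hker
    obtain ⟨U, hU, hxU, hUW⟩ := isBasisPred_good IY ID hY hD x W hxW
    obtain ⟨f, g, hfg, hxf⟩ := exists_basicOpen_le_affine_inter V₀.2 U.2 x ⟨hz ▸ hzV₀, hxU⟩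
    let V : X.affineOpens := X.affineBasicOpen f
    have hVU : V.1 ≤ U.1 := hfg.le.trans (X.basicOpen_le g)
    refine ⟨V, ⟨good_mono IY ID hU hVU, ?_⟩, hxf, hVU.trans hUW⟩
    haveI := V₀.2.isLocalization_basicOpen f
    let S := rs.map (algebraMap Γ(X, V₀.1) Γ(X, X.basicOpen f))
    refine ⟨S.length, S.get, ?_, ?_⟩
    · rw [List.ofFn_get]
      exact RingTheory.Sequence.IsWeaklyRegular.of_isLocalization Γ(X, X.basicOpen f) (Submonoid.powers f)
        (hrs : RingTheory.Sequence.IsRegular Γ(X, V₀.1) rs).toIsWeaklyRegular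
    · rw [← J.map_ideal (U := V) (V := V₀) (X.basicOpen_le f), hker, Ideal.map_ofList, Set.range_list_get]
      rfl
  · obtain ⟨U, hU, hxU, hUW⟩ := isBasisPred_good IY ID hY hD x (W ⊓ J.support.compl) ⟨hxW, hx⟩
    refine ⟨U, ⟨hU, 1, fun _ => 1, ?_, ?_⟩, hxU, hUW.trans inf_le_left⟩
    · rw [List.ofFn_succ, List.ofFn_zero, RingTheory.Sequence.isWeaklyRegular_cons_iff]
      exact ⟨IsSMulRegular.one _, RingTheory.Sequence.IsWeaklyRegular.nil _ _⟩
    · rw [ideal_eq_top_of_disjoint J U (fun y hy => (hUW hy).2), Set.range_const, Ideal.span_singleton_one]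

theorem krull_zero_of_minimal {U : X.affineOpens} {J : X.IdealSheafData} {P : Ideal Γ(X, U.1)}
    (hP : P ∈ (J.ideal U).minimalPrimes) :
    ∃ z : J.subscheme, J.subschemeι.base z = U.2.fromSpec ⟨P, hP.1.1⟩ ∧
      ringKrullDim (J.subscheme.presheaf.stalk z) = 0 := by
  obtain ⟨z, hz⟩ : U.2.fromSpec ⟨P, hP.1.1⟩ ∈ Set.range J.subschemeι := by
    rw [Scheme.IdealSheafData.range_subschemeι]
    exact (fromSpec_mem_support_iff J U _).2 hP.1.2
  refine ⟨z, hz, ?_⟩
  have hmax : IsMax z := fun z' hz' => by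
    rw [Scheme.le_iff_specializes] at hz' ⊢
    have hsp : J.subschemeι z' ⤳ J.subschemeι z := hz'.map J.subschemeι.continuous
    have hmem : J.subschemeι z' ∈ U.1 := hsp.mem_open U.1.isOpen (hz ▸ fromSpec_mem U _)
    obtain ⟨P', hP'⟩ : J.subschemeι z' ∈ Set.range U.2.fromSpec := U.2.range_fromSpec.ge hmem
    rw [hz, ← hP', U.2.fromSpec.isOpenEmbedding.isInducing.specializes_iff, ← PrimeSpectrum.le_iff_specializes] at hsp
    have hJP : J.ideal U ≤ P'.asIdeal := (fromSpec_mem_support_iff J U P').1 (hP' ▸ by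
      rw [← SetLike.mem_coe, ← Scheme.IdealSheafData.range_subschemeι]; exact ⟨z', rfl⟩)
    have heq : P' = (⟨P, hP.1.1⟩ : PrimeSpectrum Γ(X, U.1)) :=
      PrimeSpectrum.ext (le_antisymm hsp (hP.2 ⟨P'.isPrime, hJP⟩ hsp))
    have : z' = z := J.subschemeι.isClosedEmbedding.injective (hP'.symm.trans (heq ▸ hz.symm))
    rw [this]
  rw [ringKrullDim_stalk_eq_coheight, Order.coheight_eq_zero.2 hmax]
  rfl

variable (k : Type u) [Field k] (f : X ⟶ Spec (CommRingCat.of k)) [Smooth f]

include f in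
theorem isRegularRing_section' (V : X.affineOpens) : IsRegularRing Γ(X, V.1) := by
  letI : X.Over (Spec (CommRingCat.of k)) := ⟨f⟩
  haveI : Smooth (X ↘ Spec (CommRingCat.of k)) := ‹Smooth f›
  haveI : IsLocallyNoetherian X := LocallyOfFiniteType.isLocallyNoetherian f
  haveI : IsNoetherianRing Γ(X, V.1) := IsLocallyNoetherian.component_noetherian V
  refine isRegularRing_iff.2 fun q hq => ?_
  let z := V.2.fromSpec ⟨q, hq⟩
  letI := X.presheaf.algebra_section_stalk (⟨z, fromSpec_mem V ⟨q, hq⟩⟩ : V.1)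
  haveI : IsLocalization.AtPrime (X.presheaf.stalk z) q :=
    V.2.isLocalization_stalk' ⟨q, hq⟩ (fromSpec_mem V ⟨q, hq⟩)
  haveI : IsRegularLocalRing (X.presheaf.stalk z) := Groth.Agent.S1535.result k X z
  exact IsRegularLocalRing.of_ringEquiv
    (IsLocalization.algEquiv q.primeCompl (X.presheaf.stalk z) (Localization.AtPrime q)).toRingEquiv

include f in
/-- **The divisor acts injectively on the Koszul homology.** -/
theorem isSMulRegular_homology (hY : ∀ i, BlowUp.IsEffCartierIdeal (IY i)) (hD : BlowUp.IsEffCartierIdeal ID)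
    (hZ : RegImm.IsRegularImmersion RegImm.Kind.regular (⨆ i, IY i).subschemeι)
    (hZD : ∀ z : ↥(⨆ i, IY i).subscheme, ringKrullDim ((⨆ i, IY i).subscheme.presheaf.stalk z) = 0 →
      (⨆ i, IY i).subschemeι.base z ∉ Set.range ID.subschemeι.base)
    (C : KoszSh.Cx (∐ fun i => ClSub.idealMod (IY i)) (Limits.Sigma.desc fun i => ClSub.idealModι (IY i)))
    (q : ℕ) (U : X.affineOpens) (x : Γ(X, U.1)) (hxspan : ID.ideal U = Ideal.span {x}) :
    IsSMulRegular Γ(C.K.homology q, U.1) x := by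
  haveI : Coh.IsQCoh (∐ fun i => ClSub.idealMod (IY i)) :=
    isQCoh_sigmaFin _ fun i => SweepSix.ConormalSpec.isQCoh_idealMod _
  haveI := isQCoh_term C
  intro h₁ h₂ heq
  rw [← sub_eq_zero]
  have hh : x • (h₁ - h₂) = 0 := by rw [smul_sub, sub_eq_zero]; exact heq
  obtain ⟨z, hz⟩ := homologyπ_surjective C.K q U.2 (h₁ - h₂)
  rw [← hz] at hh ⊢
  rw [← QCohLib.app_smul] at hh
  obtain ⟨c, hc⟩ := (homologyπ_eq_zero_iff C.K q U.2 _).1 hh
  rw [QCohLib.app_smul] at hc
  refine ProjFormLib.section_ext _ _ fun t ht => ?_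
  obtain ⟨V, ⟨hV, m, g, hg, hJ⟩, htV, hVU⟩ := isBasisPred_goodLci IY ID hY hD hZ t U.1 ht
  rw [← ProjFormLib.ger_res _ hVU t htV, ← ProjFormLib.ger_res _ hVU t htV (0 : Γ(C.K.homology q, U.1))]
  refine congrArg (ProjFormLib.ger _ t htV) ?_
  refine (QCohLib.app_map (C.K.homologyπ q) (homOfLE hVU) z).symm.trans (Eq.trans ?_ (map_zero _).symm)
  refine (homologyπ_eq_zero_iff C.K q V.2 _).2 ?_
  choose σ hσ using hV.1
  obtain ⟨b, hb⟩ := exists_sigma_basis hσ
  have hvals : ∀ i, secVals (Limits.Sigma.desc fun i => ClSub.idealModι (IY i)) b i = val (IY i) (σ i) := fun i => by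
    show (Limits.Sigma.desc fun i => ClSub.idealModι (IY i)).app V.1 (b i) = (ClSub.idealModι (IY i)).app V.1 (σ i)
    rw [hb i, ← app_comp_apply, Sigma.ι_desc]
  have hspan : Ideal.span (Set.range (secVals (Limits.Sigma.desc fun i => ClSub.idealModι (IY i)) b)) =
      Ideal.span (Set.range g) := by
    rw [← hJ, Ideal.span_range_eq_iSup, Scheme.IdealSheafData.ideal_iSup, iSup_apply]
    exact iSup_congr fun i => by rw [hvals, ideal_eq_span (hσ i)]
  haveI := isRegularRing_section' k f V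
  let x' : Γ(X, V.1) := X.presheaf.map (homOfLE hVU).op x
  have hxV : ID.ideal V = Ideal.span {x'} := by
    rw [← ID.map_ideal (U := V) (V := U) hVU, hxspan, Ideal.map_span, Set.image_singleton]
    rfl
  have hreg : ∀ r, x' * r ∈ Ideal.span (Set.range g) → r ∈ Ideal.span (Set.range g) := by
    refine mem_of_mul_mem hg fun P hP hxP => ?_
    rw [← hJ] at hP
    obtain ⟨w, hw, hdim⟩ := krull_zero_of_minimal hP
    refine hZD w hdim ?_
    rw [hw, Scheme.IdealSheafData.range_subschemeι]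
    refine (fromSpec_mem_support_iff ID V _).2 ?_
    rw [hxV, Ideal.span_le, Set.singleton_subset_iff]
    exact hxP
  have hK : RegK x' (secVals (Limits.Sigma.desc fun i => ClSub.idealModι (IY i)) b) :=
    regK_of_span_eq (KRLib.isExactK_cast (KRLib.isExactK_of_isWeaklyRegular _ hg) (List.length_ofFn ..) fun i => by
      rw [List.get_ofFn]) hspan hreg
  refine exists_d_app_of_regK C V b hK ((C.K.iCycles q).app V.1 (res _ hVU z))
    (fun j => app_zero_of_comp (C.K.iCycles_d q j) V.1 _) (res _ hVU c) ?_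
  refine (QCohLib.app_map (C.K.d (q + 1) q) (homOfLE hVU) c).trans ?_
  rw [hc]
  refine (AmpleLib.res_smul _ hVU x _).trans ?_
  exact congrArg (x' • ·) (QCohLib.app_map (C.K.iCycles q) (homOfLE hVU) z).symm

end KoszShLib

end
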