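import Groth.Prelude.Def_KoszulSh
import Groth.Agent.WedgeLib.Glue
import Groth.Agent.QCohLib.Modules
import Groth.Agent.DefClassLib.Basic

/-!
# Functoriality of Koszul complexes of cosections
-/

set_option autoImplicit false
set_option linter.style.haveILetI false
set_option backward.isDefEq.respectTransparency false
set_option backward.isDefEq.respectTransparency.types false
universe u

open CategoryTheory CategoryTheory.Limits AlgebraicGeometry TopologicalSpace Opposite exteriorPower

noncomputable section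

namespace KoszShLib

variable {X : Scheme.{u}} {E F : X.Modules} {s : E ⟶ Coh.structureModule X} {t : F ⟶ Coh.structureModule X}
  (f : E ⟶ F) (C : KoszSh.Cx E s) (D : KoszSh.Cx F t)

/-- A morphism of modules on sections, as a linear map. -/
def appLin (U : X.Opens) : Γ(E, U) →ₗ[Γ(X, U)] Γ(F, U) where
  toFun e := f.app U e
  map_add' a b := map_add (f.app U).hom a b
  map_smul' r a := QCohLib.app_smul f U r a

@[simp] theorem appLin_apply (U : X.Opens) (e : Γ(E, U)) : appLin f U e = f.app U e := rfl

/-- The exterior power of `f` read through the identifications. -/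
def extLin (p : ℕ) (U : X.affineOpens) : Γ(C.K.X p, U.1) →ₗ[Γ(X, U.1)] Γ(D.K.X p, U.1) :=
  (D.loc p U).symm.toLinearMap ∘ₗ exteriorPower.map p (appLin f U.1) ∘ₗ (C.loc p U).toLinearMap

theorem extLin_symm (p : ℕ) (U : X.affineOpens) (e : Fin p → Γ(E, U.1)) :
    extLin f C D p U ((C.loc p U).symm (ιMulti _ p e)) =
      (D.loc p U).symm (ιMulti _ p fun j => f.app U.1 (e j)) := by
  simp only [extLin, LinearMap.comp_apply, LinearEquiv.coe_coe, LinearEquiv.apply_symm_apply,
    exteriorPower.map_apply_ιMulti]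
  rfl

/-- Linear maps out of a term agreeing on decomposable sections agree. -/
theorem ext_symm {p : ℕ} {U : X.affineOpens} {N : Type*} [AddCommGroup N] [Module Γ(X, U.1) N]
    {a b : Γ(C.K.X p, U.1) →ₗ[Γ(X, U.1)] N}
    (h : ∀ e : Fin p → Γ(E, U.1), a ((C.loc p U).symm (ιMulti _ p e)) = b ((C.loc p U).symm (ιMulti _ p e))) :
    a = b := by
  have h' : a ∘ₗ (C.loc p U).symm.toLinearMap = b ∘ₗ (C.loc p U).symm.toLinearMap :=
    exteriorPower.linearMap_ext (AlternatingMap.ext fun e => h e)
  ext z
  simpa using LinearMap.congr_fun h' ((C.loc p U) z)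

theorem extLin_res (p : ℕ) (U V : X.affineOpens) (h : V.1 ≤ U.1) (z : Γ(C.K.X p, U.1)) :
    AmpleLib.res (D.K.X p) h (extLin f C D p U z) = extLin f C D p V (AmpleLib.res (C.K.X p) h z) := by
  obtain ⟨w, rfl⟩ := (C.loc p U).symm.surjective z
  have hw : w ∈ Submodule.span Γ(X, U.1) (Set.range (ιMulti Γ(X, U.1) p (M := Γ(E, U.1)))) := by
    rw [exteriorPower.ιMulti_span]; trivial
  induction hw using Submodule.span_induction with
  | mem w hw =>
    obtain ⟨e, rfl⟩ := hw
    rw [extLin_symm]
    refine (D.loc_res p U V h _).trans ?_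
    refine Eq.trans ?_ (congrArg (extLin f C D p V) (C.loc_res p U V h e)).symm
    rw [extLin_symm]
    exact congrArg (fun v => (D.loc p V).symm (ιMulti _ p v))
      (funext fun j => (QCohLib.app_map f (homOfLE h) (e j)).symm)
  | zero =>
    simp only [map_zero, AmpleLib.res]
  | add a b _ _ ha hb =>
    simp only [AmpleLib.res, map_add] at ha hb ⊢
    rw [ha, hb]
  | smul r a _ ha =>
    rw [map_smul, map_smul, AmpleLib.res_smul, AmpleLib.res_smul, map_smul, ha]

/-- **A morphism of cosections gives termwise maps of Koszul complexes.** -/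
theorem exists_term (p : ℕ) : ∃ φ : C.K.X p ⟶ D.K.X p,
    ∀ (U : X.affineOpens) (z : Γ(C.K.X p, U.1)), φ.app U.1 z = extLin f C D p U z :=
  WedgeLib.exists_hom_affine (extLin f C D p) (extLin_res f C D p)

theorem secForm_comp (hf : f ≫ t = s) (U : X.Opens) (e : Γ(E, U)) :
    KoszSh.secForm t U (f.app U e) = KoszSh.secForm s U e := by
  subst hf
  rfl

/-- **Functoriality of Koszul complexes.** -/
theorem existsUnique_map (hf : f ≫ t = s) :
    ∃! φ : C.K ⟶ D.K, ∀ (p : ℕ) (U : X.affineOpens) (e : Fin p → Γ(E, U.1)),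
      (φ.f p).app U.1 ((C.loc p U).symm (ιMulti _ p e)) =
        (D.loc p U).symm (ιMulti _ p (fun j => f.app U.1 (e j))) := by
  choose φ hφ using exists_term f C D
  have hcomm : ∀ p, φ (p + 1) ≫ D.K.d (p + 1) p = C.K.d (p + 1) p ≫ φ p := fun p =>
    DefClassLib.hom_ext_affines fun U z => by
      show (D.K.d (p + 1) p).app U.1 ((φ (p + 1)).app U.1 z) = (φ p).app U.1 ((C.K.d (p + 1) p).app U.1 z)
      rw [hφ, hφ]
      refine LinearMap.congr_fun (ext_symm C (a := appLin (D.K.d (p + 1) p) U.1 ∘ₗ extLin f C D (p + 1) U)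
        (b := extLin f C D p U ∘ₗ appLin (C.K.d (p + 1) p) U.1) fun e => ?_) z
      simp only [LinearMap.comp_apply, appLin_apply, extLin_symm]
      rw [D.rule p U, C.rule p U]
      simp only [KoszSh.dGen, map_sum, map_smul, extLin_symm, secForm_comp f hf]
  let Φ : C.K ⟶ D.K :=
    { f := φ
      comm' := fun i j hij => by
        obtain rfl : j + 1 = i := hij
        exact hcomm j }
  refine ⟨Φ, fun p U e => (hφ p U _).trans (extLin_symm f C D p U e), fun ψ hψ => ?_⟩
  refine HomologicalComplex.hom_ext _ _ fun p => DefClassLib.hom_ext_affines fun U z => ?_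
  refine Eq.trans ?_ (hφ p U z).symm
  exact LinearMap.congr_fun (ext_symm C (a := appLin (ψ.f p) U.1) (b := extLin f C D p U)
    fun e => (hψ p U e).trans (extLin_symm f C D p U e).symm) z

/-- The components of a map given on decomposable sections. -/
theorem app_eq_extLin {φ : C.K ⟶ D.K} (h : ∀ (p : ℕ) (U : X.affineOpens) (e : Fin p → Γ(E, U.1)),
      (φ.f p).app U.1 ((C.loc p U).symm (ιMulti _ p e)) =
        (D.loc p U).symm (ιMulti _ p (fun j => f.app U.1 (e j))))
    (p : ℕ) (U : X.affineOpens) (z : Γ(C.K.X p, U.1)) : (φ.f p).app U.1 z = extLin f C D p U z :=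
  LinearMap.congr_fun (ext_symm C (a := appLin (φ.f p) U.1) (b := extLin f C D p U)
    fun e => (h p U e).trans (extLin_symm f C D p U e).symm) z

end KoszShLib

end
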