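import Groth.Agent.KRLib.Seq
import Groth.Prelude.Def_KoszulSh
import Mathlib.LinearAlgebra.ExteriorPower.Basis

/-!
# Exterior-power Koszul complexes and the recursive model
-/

set_option autoImplicit false
universe u

open KoszDetLib KRLib exteriorPower

noncomputable section

namespace KoszShLib

variable {Q : Type u} [CommRing Q]

/-- `x` acts injectively on the Koszul homology of `f`. -/
def RegK (x : Q) {n : ℕ} (f : Fin n → Q) : Prop :=
  ∀ z w : Kz Q n, D f z = 0 → D f w = x • z → ∃ u, D f u = z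

theorem regK_of_retract {x : Q} {m n : ℕ} {f : Fin m → Q} {g : Fin n → Q} (hg : RegK x g)
    (c : Fin m → Fin n → Q) (d : Fin n → Fin m → Q) (hc : ∀ i, f i = ∑ j, c i j * g j)
    (hd : ∀ i, g i = ∑ j, d i j * f j) (hcd : ∀ a k, ∑ j, c a j * d j k = if a = k then 1 else 0) :
    RegK x f := by
  intro z w hz hw
  obtain ⟨u, hu⟩ := hg (phi c z) (phi c w) (by rw [D_phi _ f g hc, hz, map_zero])
    (by rw [D_phi _ f g hc, hw, map_smul])
  refine ⟨phi d u, ?_⟩
  rw [D_phi _ g f hd, hu, phi_phi]
  convert phi_id z using 3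
  funext a k
  rw [hcd a k, Pi.single_apply]
  simp [eq_comm]

theorem regK_of_isExactK {x : Q} {n : ℕ} {g : Fin n → Q} (hg : IsExactK g)
    (hx : ∀ r, x * r ∈ Ideal.span (Set.range g) → r ∈ Ideal.span (Set.range g)) : RegK x g := by
  intro z w hz hw
  refine hg z hz (hx _ ?_)
  rw [← smul_eq_mul, ← map_smul, ← hw]
  exact eps_D_mem g w

theorem regK_zero_app {x : Q} {c : ℕ} {g : Fin c → Q} (hg : RegK x g) :
    ∀ m : ℕ, RegK x (app (0 : Fin m → Q) g)
  | 0 => hg
  | m + 1 => by
    intro z w hz hw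
    have h1 : ∀ y, pa (D (app (0 : Fin (m + 1) → Q) g) y) = D (app (0 : Fin m → Q) g) (pa y) := fun y => by
      rw [pa_D, tail_app, app_zero]
      simp only [Pi.zero_apply, zero_smul, add_zero]
      rfl
    have h2 : ∀ y, pb (D (app (0 : Fin (m + 1) → Q) g) y) = -D (app (0 : Fin m → Q) g) (pb y) := fun y => by
      rw [pb_D, tail_app]
      rfl
    obtain ⟨a, ha⟩ := regK_zero_app hg m (pa z) (pa w) (by rw [← h1, hz, map_zero]) (by rw [← h1, hw, map_smul])
    obtain ⟨b, hb⟩ := regK_zero_app hg m (pb z) (-pb w)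
      (by rw [← neg_eq_zero, ← h2, hz, map_zero]) (by rw [map_neg, ← h2, hw, map_smul])
    exact ⟨join (a, -b), join_ext (by rw [h1, pa_join, ha]) (by rw [h2, pb_join, map_neg, neg_neg, hb])⟩

theorem app_mul_sum : ∀ {m c : ℕ} (u s : Fin m → Q) (v t : Fin c → Q),
    ∑ j, app u v j * app s t j = (∑ i, u i * s i) + ∑ j, v j * t j
  | 0, _, _, _, _, _ => by simp [app]
  | m + 1, c, u, s, v, t => by
    show ∑ j : Fin (c + m + 1), _ = _
    rw [Fin.sum_univ_succ, Fin.sum_univ_succ (n := m), app_zero, app_zero, add_assoc]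
    refine congrArg (u 0 * s 0 + ·) (Eq.trans (Finset.sum_congr rfl fun j _ => ?_)
      (app_mul_sum (Fin.tail u) (Fin.tail s) v t))
    simp [app]

/-- **An element which is a non-zero-divisor modulo an ideal generated by an exact family is a
non-zero-divisor on the Koszul homology of every generating family.** -/
theorem regK_of_span_eq {x : Q} {n c : ℕ} {f : Fin n → Q} {g : Fin c → Q} (hg : IsExactK g)
    (hfg : Ideal.span (Set.range f) = Ideal.span (Set.range g))
    (hx : ∀ r, x * r ∈ Ideal.span (Set.range g) → r ∈ Ideal.span (Set.range g)) : RegK x f := by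
  classical
  choose A hA using fun i => Ideal.mem_span_range_iff_exists_fun.1
    (hfg.le (Ideal.subset_span ⟨i, rfl⟩) : f i ∈ _)
  choose B hB using fun i => Ideal.mem_span_range_iff_exists_fun.1
    (hfg.ge (Ideal.subset_span ⟨i, rfl⟩) : g i ∈ _)
  let U : Fin n → Fin n → Q := fun a k => (if a = k then 1 else 0) - ∑ j, A a j * B j k
  refine regK_of_retract (regK_zero_app (regK_of_isExactK hg hx) n) (fun a => app (Pi.single a 1) (A a))
    (app U B) (fun a => ?_) (fun i => ?_) (fun a k => ?_)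
  · rw [app_mul_sum]
    simp [hA a]
  · rw [app_map (fun v : Fin n → Q => ∑ k, v k * f k) U B i]
    refine congrFun (congr_arg₂ app (funext fun a => ?_) (funext fun j => (hB j).symm)) i
    simp only [Function.comp_apply, Pi.zero_apply, U, sub_mul, Finset.sum_sub_distrib, Finset.sum_mul, mul_assoc]
    rw [Finset.sum_comm]
    simp only [← Finset.mul_sum, hB, hA]
    simp
  · simp only [app_map (fun v : Fin n → Q => v k) U B]
    rw [app_mul_sum]
    simp [U, Pi.single_apply]

section Exterior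

variable {M : Type u} [AddCommGroup M] [Module Q M] {n : ℕ} (b : Module.Basis (Fin n) Q M) (φ : M →ₗ[Q] Q)

/-- The values of a form on a basis. -/
def vals : Fin n → Q := fun i => φ (b i)

theorem form_eq (m : M) : ∑ i, b.equivFun m i * vals b φ i = φ m := by
  conv_rhs => rw [← b.sum_equivFun m, map_sum]
  simp [vals]

theorem D_wedge : ∀ {m : ℕ} (v : Fin (m + 1) → M),
    D (vals b φ) (wedge fun i => b.equivFun (v i)) =
      ∑ i : Fin (m + 1), ((-1 : Q) ^ (i : ℕ) * φ (v i)) • wedge (fun j => b.equivFun (v (i.succAbove j)))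
  | 0, v => by
    show D (vals b φ) (L (b.equivFun (v 0)) (one n)) = _
    have h := D_L (vals b φ) (b.equivFun (v 0)) (one n)
    rw [D_one, map_zero, add_zero, form_eq] at h
    rw [h, Fin.sum_univ_one]
    simp [wedge]
  | m + 1, v => by
    have h := D_L (vals b φ) (b.equivFun (v 0)) (wedge fun i => b.equivFun (v (Fin.succ i)))
    rw [D_wedge (fun i => v (Fin.succ i)), form_eq] at h
    show D (vals b φ) (L (b.equivFun (v 0)) (wedge fun i => b.equivFun (v (Fin.succ i)))) = _
    rw [eq_sub_of_add_eq h, map_sum, sub_eq_add_neg, ← Finset.sum_neg_distrib]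
    conv_rhs => rw [Fin.sum_univ_succ]
    refine congr_arg₂ (· + ·) ?_ (Finset.sum_congr rfl fun i _ => ?_)
    · simp only [Fin.val_zero, pow_zero, one_mul, Fin.succAbove_zero]
    · rw [map_smul, Fin.val_succ, pow_succ, mul_neg, mul_one, neg_mul, neg_smul]
      refine congrArg (fun z => -(((-1 : Q) ^ (i : ℕ) * φ (v i.succ)) • z)) ?_
      show _ = L (b.equivFun (v (i.succ.succAbove 0))) (wedge fun j => b.equivFun (v (i.succ.succAbove (Fin.succ j))))
      simp only [Fin.succ_succAbove_zero, Fin.succ_succAbove_succ]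

/-- The comparison on decomposable elements. -/
def wedgeAlt (p : ℕ) : M [⋀^Fin p]→ₗ[Q] Kz Q n where
  toFun v := wedge fun i => b.equivFun (v i)
  map_update_add' {inst} v i x y := by
    obtain rfl : inst = instDecidableEqFin p := Subsingleton.elim _ _
    have h : ∀ z, (fun k => b.equivFun (Function.update v i z k)) =
        Function.update (fun k => b.equivFun (v k)) i (b.equivFun z) := fun z => by
      funext k
      rcases eq_or_ne k i with rfl | hk <;> simp [*]
    simp only [h, map_add, wedge_update_add]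
  map_update_smul' {inst} v i a x := by
    obtain rfl : inst = instDecidableEqFin p := Subsingleton.elim _ _
    have h : ∀ z, (fun k => b.equivFun (Function.update v i z k)) =
        Function.update (fun k => b.equivFun (v k)) i (b.equivFun z) := fun z => by
      funext k
      rcases eq_or_ne k i with rfl | hk <;> simp [*]
    simp only [h, map_smul, wedge_update_smul]
  map_eq_zero_of_eq' v i j h hij := wedge_eq_zero _ i j (congrArg b.equivFun h) hij

/-- The comparison with the recursive model. -/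
def theta (p : ℕ) : ↥(⋀[Q]^p M) →ₗ[Q] Kz Q n := alternatingMapLinearEquiv (wedgeAlt b p)

theorem theta_ιMulti (p : ℕ) (v : Fin p → M) : theta b p (ιMulti Q p v) = wedge fun i => b.equivFun (v i) :=
  alternatingMapLinearEquiv_apply_ιMulti _ _

theorem proj_theta (p : ℕ) (z : ↥(⋀[Q]^p M)) : proj p (theta b p z) = theta b p z :=
  LinearMap.congr_fun (show proj p ∘ₗ theta b p = theta b p from exteriorPower.linearMap_ext
    (AlternatingMap.ext fun v => by simp [theta_ιMulti, proj_wedge])) z

theorem D_theta {p : ℕ} (d : ↥(⋀[Q]^(p + 1) M) →ₗ[Q] ↥(⋀[Q]^p M))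
    (hd : ∀ e, d (ιMulti Q (p + 1) e) = KoszSh.dGen φ p e) (z : ↥(⋀[Q]^(p + 1) M)) :
    D (vals b φ) (theta b (p + 1) z) = theta b p (d z) :=
  LinearMap.congr_fun (show D (vals b φ) ∘ₗ theta b (p + 1) = theta b p ∘ₗ d from exteriorPower.linearMap_ext
    (AlternatingMap.ext fun v => by
      simp only [LinearMap.compAlternatingMap_apply, LinearMap.comp_apply, theta_ιMulti, hd, KoszSh.dGen,
        map_sum, map_smul, D_wedge])) z

/-- The inverse comparison. -/
def psi : ∀ {k : ℕ}, (Fin k → M) → Kz Q k →ₗ[Q] ExteriorAlgebra Q M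
  | 0, _ => LinearMap.smulRight (LinearMap.proj (bot 0)) 1
  | _ + 1, e => psi (Fin.tail e) ∘ₗ pa + (LinearMap.mulLeft Q (ExteriorAlgebra.ι Q (e 0))) ∘ₗ psi (Fin.tail e) ∘ₗ pb

theorem psi_L : ∀ {k : ℕ} (e : Fin k → M) (v : Fin k → Q) (x : Kz Q k),
    psi e (L v x) = ExteriorAlgebra.ι Q (∑ i, v i • e i) * psi e x
  | 0, e, v, x => by
    show psi e (0 : Kz Q 0) = _
    simp
  | k + 1, e, v, x => by
    show psi (Fin.tail e) (pa (L v x)) + ExteriorAlgebra.ι Q (e 0) * psi (Fin.tail e) (pb (L v x)) =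
      _ * (psi (Fin.tail e) (pa x) + ExteriorAlgebra.ι Q (e 0) * psi (Fin.tail e) (pb x))
    rw [pa_L, pb_L, map_sub, map_smul, psi_L, psi_L, Fin.sum_univ_succ, map_add, map_smul]
    have hsw : ExteriorAlgebra.ι Q (e 0) * ExteriorAlgebra.ι Q (∑ i : Fin k, Fin.tail v i • Fin.tail e i) =
        -(ExteriorAlgebra.ι Q (∑ i : Fin k, Fin.tail v i • Fin.tail e i) * ExteriorAlgebra.ι Q (e 0)) :=
      eq_neg_of_add_eq_zero_left (ExteriorAlgebra.ι_add_mul_swap _ _)
    simp only [Fin.tail] at hsw ⊢
    simp only [mul_add, add_mul, mul_sub, smul_mul_assoc, mul_smul_comm, ← mul_assoc, hsw,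
      ExteriorAlgebra.ι_sq_zero, zero_mul, smul_zero, neg_mul]
    abel

theorem psi_one : ∀ {k : ℕ} (e : Fin k → M), psi e (one k : Kz Q k) = 1
  | 0, e => by
    show ((one 0 : Kz Q 0) (bot 0)) • (1 : ExteriorAlgebra Q M) = 1
    simp [one]
  | k + 1, e => by
    show psi (Fin.tail e) (one k) + ExteriorAlgebra.ι Q (e 0) * psi (Fin.tail e) (0 : Kz Q k) = 1
    rw [map_zero, mul_zero, add_zero, psi_one]

theorem psi_wedge : ∀ {m : ℕ} (v : Fin m → M),
    psi b (wedge fun i => b.equivFun (v i)) = ExteriorAlgebra.ιMulti Q m v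
  | 0, v => by
    show psi b (one n) = _
    rw [psi_one, ExteriorAlgebra.ιMulti_zero_apply]
  | m + 1, v => by
    show psi b (L (b.equivFun (v 0)) (wedge fun i => b.equivFun (v (Fin.succ i)))) = _
    rw [psi_L, b.sum_equivFun, psi_wedge, ExteriorAlgebra.ιMulti_succ_apply]
    rfl

theorem psi_theta (p : ℕ) (z : ↥(⋀[Q]^p M)) : psi b (theta b p z) = (z : ExteriorAlgebra Q M) :=
  LinearMap.congr_fun (show psi b ∘ₗ theta b p = (⋀[Q]^p M).subtype from exteriorPower.linearMap_ext
    (AlternatingMap.ext fun v => by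
      simp only [LinearMap.compAlternatingMap_apply, LinearMap.comp_apply, theta_ιMulti, psi_wedge,
        Submodule.subtype_apply, exteriorPower.ιMulti_apply_coe])) z

theorem theta_injective (p : ℕ) : Function.Injective (theta b p) := fun z z' h =>
  Subtype.ext (by rw [← psi_theta b, ← psi_theta b, h])

theorem psi_proj_mem : ∀ {k : ℕ} (e : Fin k → M) (p : ℕ) (x : Kz Q k), psi e (proj p x) ∈ ⋀[Q]^p M
  | 0, e, p, x => by
    show (proj p x (bot 0)) • (1 : ExteriorAlgebra Q M) ∈ _
    cases p with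
    | zero =>
      refine Submodule.smul_mem _ _ ?_
      show (1 : ExteriorAlgebra Q M) ∈ LinearMap.range (ExteriorAlgebra.ι Q (M := M)) ^ 0
      rw [pow_zero]
      exact Submodule.one_le.mp le_rfl
    | succ p => simp [proj_apply, deg]
  | k + 1, e, p, x => by
    show psi (Fin.tail e) (pa (proj p x)) + ExteriorAlgebra.ι Q (e 0) * psi (Fin.tail e) (pb (proj p x)) ∈ _
    refine Submodule.add_mem _ (by rw [pa_proj]; exact psi_proj_mem _ _ _) ?_
    cases p with
    | zero => simp [pb_proj_zero]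
    | succ p =>
      rw [pb_proj, show (⋀[Q]^(p + 1) M) = LinearMap.range (ExteriorAlgebra.ι Q (M := M)) * ⋀[Q]^p M from pow_succ' _ _]
      exact Submodule.mul_mem_mul ⟨_, rfl⟩ (psi_proj_mem _ _ _)

theorem exists_theta_eq : ∀ (p : ℕ) (x : Kz Q n), ∃ z, theta b p z = proj p x := fun p x => by
  have key : ∀ {k : ℕ} (e : Fin k → M) (q : ℕ) (y : Kz Q k),
      ∃ z : ↥(⋀[Q]^q M), theta b q z = phi (fun i => b.equivFun (e i)) (proj q y) := by
    intro k
    induction k with
    | zero =>
      intro e q y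
      cases q with
      | zero =>
        refine ⟨proj 0 y (bot 0) • ιMulti Q 0 ![], ?_⟩
        rw [map_smul, theta_ιMulti]
        rfl
      | succ q =>
        exact ⟨0, by
          rw [map_zero, show proj (q + 1) y = (0 : Kz Q 0) from funext fun s => by simp [proj_apply, deg], map_zero]⟩
    | succ k ih =>
      intro e q y
      cases q with
      | zero =>
        obtain ⟨z, hz⟩ := ih (Fin.tail e) 0 (pa y)
        refine ⟨z, hz.trans ?_⟩
        show _ = phi _ (pa (proj 0 y)) + L _ (phi _ (pb (proj 0 y)))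
        rw [pb_proj_zero, map_zero, map_zero, add_zero, pa_proj]
        rfl
      | succ q =>
        obtain ⟨z, hz⟩ := ih (Fin.tail e) (q + 1) (pa y)
        obtain ⟨z', hz'⟩ := ih (Fin.tail e) q (pb y)
        have hL : ∀ w : ↥(⋀[Q]^q M), ∃ w' : ↥(⋀[Q]^(q + 1) M), theta b (q + 1) w' = L (b.equivFun (e 0)) (theta b q w) := by
          intro w
          have hw : w ∈ Submodule.span Q (Set.range (ιMulti Q q (M := M))) := by
            rw [ιMulti_span]; trivial
          induction hw using Submodule.span_induction with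
          | mem w hw =>
            obtain ⟨v, rfl⟩ := hw
            refine ⟨ιMulti Q (q + 1) (Fin.cons (e 0) v), ?_⟩
            rw [theta_ιMulti, theta_ιMulti]
            rfl
          | zero => exact ⟨0, by simp⟩
          | add a a' _ _ ha ha' =>
            obtain ⟨s, hs⟩ := ha; obtain ⟨s', hs'⟩ := ha'
            exact ⟨s + s', by simp [hs, hs']⟩
          | smul r a _ ha =>
            obtain ⟨s, hs⟩ := ha
            exact ⟨r • s, by simp [hs]⟩
        obtain ⟨w', hw'⟩ := hL z'
        refine ⟨z + w', ?_⟩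
        show _ = phi _ (pa (proj (q + 1) y)) + L _ (phi _ (pb (proj (q + 1) y)))
        rw [map_add, hz, hw', hz', pa_proj, pb_proj]
        rfl
  obtain ⟨z, hz⟩ := key b p x
  refine ⟨z, hz.trans ?_⟩
  have : (fun i => b.equivFun (b i)) = fun i => (Pi.single i 1 : Fin n → Q) := funext fun i => by
    funext j; simp [Pi.single_apply, Finsupp.single_apply, eq_comm]
  rw [this, phi_id]

variable (d : ∀ p, ↥(⋀[Q]^(p + 1) M) →ₗ[Q] ↥(⋀[Q]^p M))
  (hd : ∀ p e, d p (ιMulti Q (p + 1) e) = KoszSh.dGen φ p e)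
include hd

theorem exists_d_eq {p : ℕ} (z : ↥(⋀[Q]^p M)) {u : Kz Q n} (hu : D (vals b φ) u = theta b p z) :
    ∃ w, d p w = z := by
  obtain ⟨w, hw⟩ := exists_theta_eq b (p + 1) u
  refine ⟨w, theta_injective b p ?_⟩
  rw [← D_theta b φ (d p) (hd p), hw, D_proj_succ, hu, proj_theta]

/-- Exactness in positive degrees. -/
theorem exists_d_of_isExactK (hf : IsExactK (vals b φ)) {p : ℕ} (z : ↥(⋀[Q]^(p + 1) M)) (hz : d p z = 0) :
    ∃ w, d (p + 1) w = z := by
  obtain ⟨u, hu⟩ := hf (theta b (p + 1) z) (by rw [D_theta b φ (d p) (hd p), hz, map_zero]) (by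
    rw [← proj_theta, show eps (proj (p + 1) (theta b (p + 1) z)) = (0 : Q) by simp [eps, proj_apply, deg_bot]]
    exact Ideal.zero_mem _)
  exact exists_d_eq b φ d hd z hu

/-- Regularity on the homology. -/
theorem exists_d_of_regK {x : Q} (hx : RegK x (vals b φ)) {p : ℕ} (z : ↥(⋀[Q]^p M))
    (hz : ∀ q (h : p = q + 1), d q (h ▸ z) = 0) (w : ↥(⋀[Q]^(p + 1) M)) (hw : d p w = x • z) :
    ∃ w', d p w' = z := by
  have h1 : D (vals b φ) (theta b p z) = 0 := by
    cases p with
    | zero => rw [← proj_theta, D_proj_zero]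
    | succ q => rw [D_theta b φ (d q) (hd q), show d q z = 0 from hz q rfl, map_zero]
  obtain ⟨u, hu⟩ := hx (theta b p z) (theta b (p + 1) w) h1 (by rw [D_theta b φ (d p) (hd p), hw, map_smul])
  exact exists_d_eq b φ d hd z hu

end Exterior

end KoszShLib

end
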