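import Groth.Agent.KoszShLib.Regular
import Groth.Agent.RegImmKindLib.Mor
import Groth.Agent.TransLib.RegPres
import Groth.Agent.SMTLib.CMQuot
import Groth.Agent.CatLib.CM
import Groth.Agent.CatLib.Flat
import Groth.Agent.OmegaAffLib.Rank

/-!
# Local Koszul resolutions of complete intersections in Cohen–Macaulay schemes
-/

set_option autoImplicit false
set_option linter.style.haveILetI false
set_option backward.isDefEq.respectTransparency false
set_option backward.isDefEq.respectTransparency.types false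
universe u

open CategoryTheory CategoryTheory.Limits AlgebraicGeometry TopologicalSpace Opposite exteriorPower
open RingTheory.Sequence (IsWeaklyRegular)
open IsLocalRing CommAlgDim

noncomputable section

namespace KoszShLib

/-- In a Cohen–Macaulay local ring a sequence is regular if its ideal has height at least its length. -/
theorem isWeaklyRegular_of_height {O : Type u} [CommRing O] [IsLocalRing O] [IsNoetherianRing O]
    [LocCoh.IsCohenMacaulayLocalRing O] (rs : List O) (hm : ∀ r ∈ rs, r ∈ maximalIdeal O)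
    (h : (rs.length : ℕ∞) ≤ (Ideal.ofList rs).height) : IsWeaklyRegular O rs := by
  have hO := SMTLib.isCM_of_isCohenMacaulayLocalRing O
  refine (isRegular_of_dim hO hm ?_).toIsWeaklyRegular
  let I := Ideal.ofList rs
  have hI : I ≤ maximalIdeal O := Ideal.span_le.2 hm
  haveI : Nontrivial (O ⧸ I) :=
    Ideal.Quotient.nontrivial_iff.2 (ne_top_of_le_ne_top (Ideal.IsMaximal.ne_top inferInstance) hI)
  haveI : IsLocalRing (O ⧸ I) := IsLocalRing.of_surjective' (Ideal.Quotient.mk _) Ideal.Quotient.mk_surjective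
  obtain ⟨P', hP', hdim⟩ := CatLib.exists_minimal_dim (R := O ⧸ I)
  haveI : P'.IsPrime := hP'.1.1
  let P := P'.comap (Ideal.Quotient.mk I)
  haveI : P.IsPrime := Ideal.IsPrime.comap _
  have hIP : I ≤ P := fun x hx => by
    rw [Ideal.mem_comap, Ideal.Quotient.eq_zero_iff_mem.2 hx]; exact P'.zero_mem
  have hPP : P.map (Ideal.Quotient.mk I) = P' :=
    Ideal.map_comap_of_surjective _ Ideal.Quotient.mk_surjective _
  rw [← hdim, ← hPP, CatLib.ringKrullDim_quotient_quotient_map hIP,
    ← CatLib.ringKrullDim_quotient_add_height hO P]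
  refine add_le_add le_rfl ?_
  exact_mod_cast h.trans (Ideal.height_mono hIP)

/-- The Koszul complex of a regular sequence on an affine scheme is a resolution. -/
theorem isZero_homology_free {X : Scheme.{u}} (U : X.affineOpens) {c : ℕ} (f : Fin c → Γ(X, U.1))
    (hf : IsWeaklyRegular Γ(X, U.1) (List.ofFn f))
    (s : FlatMod.freeMod (↑U.1) c ⟶ Coh.structureModule (↑U.1))
    (hs : ∀ k : Fin c, KoszSh.secForm s ⊤ ((Limits.Sigma.ι (fun _ : Fin c => Coh.structureModule (↑U.1)) k).app ⊤
        (OmegaSh.strSect (↑U.1) ⊤ 1)) = U.1.topIso.inv (f k))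
    (C : KoszSh.Cx (FlatMod.freeMod (↑U.1) c) s) (q : ℕ) (hq : 1 ≤ q) : Limits.IsZero (C.K.homology q) := by
  obtain ⟨b, hb⟩ := exists_sigma_basis (X := (U.1 : Scheme.{u})) (M := fun _ : Fin c => Coh.structureModule (↑U.1))
    (fun _ => AmpleLib.one_genOn (X := (U.1 : Scheme.{u})) ⊤)
  haveI : IsAffine (U.1 : Scheme.{u}) := U.2
  refine isZero_homology C (fun x => ⟨⊤, trivial, ⟨?_⟩⟩) (fun x => ⟨⟨⊤, isAffineOpen_top _⟩, trivial, b, ?_⟩) q hq
  · haveI : Coh.IsQCoh (FlatMod.freeMod (U.1 : Scheme.{u}) c) := isQCoh_sigmaFin _ fun _ => QCohLib.isQCoh_unit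
    exact Classical.choice (OmegaAffLib.nonempty_restrict_iso_freeMod (isAffineOpen_top _) _ b)
  · letI : Algebra Γ(X, U.1) Γ((U.1 : Scheme.{u}), ⊤) := U.1.topIso.inv.hom.toAlgebra
    haveI : Module.Flat Γ(X, U.1) Γ((U.1 : Scheme.{u}), ⊤) :=
      RingHom.Flat.of_bijective (ConcreteCategory.bijective_of_isIso U.1.topIso.inv)
    have h := RingTheory.Sequence.IsWeaklyRegular.of_flat (S := Γ((U.1 : Scheme.{u}), ⊤)) hf
    rw [List.map_ofFn] at h
    convert h using 2
    funext k
    exact (congrArg (KoszSh.secForm s ⊤) (hb k)).trans (hs k)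

theorem exists_regular_nhd {X Y : Scheme.{u}} [IsLocallyNoetherian X]
    (hCM : ∀ x : X, LocCoh.IsCohenMacaulayLocalRing (X.presheaf.stalk x))
    (i : Y ⟶ X) [IsClosedImmersion i] (c : ℕ)
    (hgen : ∀ y : Y, ∃ U : X.affineOpens, i.base y ∈ U.1 ∧ ∃ g : Fin c → Γ(X, U.1), i.ker.ideal U = Ideal.span (Set.range g))
    (hht : ∀ y : Y, (c : ℕ∞) ≤ (RingHom.ker (i.stalkMap y).hom).height) (y : Y) :
    ∃ U : X.affineOpens, i.base y ∈ U.1 ∧ ∃ f : Fin c → Γ(X, U.1),
      i.ker.ideal U = Ideal.span (Set.range f) ∧ IsWeaklyRegular Γ(X, U.1) (List.ofFn f) := by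
  obtain ⟨U, hyU, g, hg⟩ := hgen y
  haveI : IsNoetherianRing Γ(X, U.1) := IsLocallyNoetherian.component_noetherian U
  letI := X.presheaf.algebra_section_stalk (⟨i y, hyU⟩ : U.1)
  let p := (U.2.primeIdealOf ⟨i y, hyU⟩).asIdeal
  haveI : IsLocalization.AtPrime (X.presheaf.stalk (i y)) p := U.2.isLocalization_stalk ⟨i y, hyU⟩
  haveI := hCM (i y)
  haveI : IsNoetherianRing (X.presheaf.stalk (i y)) := IsLocalization.isNoetherianRing p.primeCompl _ inferInstance
  obtain ⟨hk1, hk2⟩ := RegImmKindLib.ker_stalkMap i U.2 (U.2.preimage i) (Scheme.Hom.app_surjective i U.1 U.2) y hyU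
  rw [← Scheme.Hom.ker_apply, hg] at hk1 hk2
  let S := (List.ofFn g).map (algebraMap Γ(X, U.1) (X.presheaf.stalk (i y)))
  have hS : Ideal.ofList S = RingHom.ker (i.stalkMap y).hom := by
    rw [hk1, ← Ideal.map_ofList]
    exact congrArg _ (congrArg Ideal.span (Set.ext fun x => List.mem_ofFn' g x))
  have hmax : ∀ r ∈ S, r ∈ maximalIdeal (X.presheaf.stalk (i y)) := by
    intro r hr
    obtain ⟨a, ha, rfl⟩ := List.mem_map.1 hr
    obtain ⟨j, rfl⟩ := (List.mem_ofFn' g a).1 ha
    exact (IsLocalization.AtPrime.to_map_mem_maximal_iff _ p _).2 (hk2 (Ideal.subset_span ⟨j, rfl⟩))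
  have hreg : IsWeaklyRegular (X.presheaf.stalk (i y)) S := isWeaklyRegular_of_height S hmax (by
    rw [hS, show S.length = c by simp [S]]
    exact hht y)
  let e := IsLocalization.algEquiv p.primeCompl (X.presheaf.stalk (i y)) (Localization.AtPrime p)
  have hreg' : IsWeaklyRegular (Localization.AtPrime p)
      ((List.ofFn g).map (algebraMap Γ(X, U.1) (Localization.AtPrime p))) := by
    letI : Algebra (X.presheaf.stalk (i y)) (Localization.AtPrime p) := e.toRingEquiv.toRingHom.toAlgebra
    haveI : Module.Flat (X.presheaf.stalk (i y)) (Localization.AtPrime p) := RingHom.Flat.of_bijective e.bijective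
    have h := RingTheory.Sequence.IsWeaklyRegular.of_flat (S := Localization.AtPrime p) hreg
    rw [List.map_map] at h
    exact (List.map_congr_left fun a _ => (e.commutes a : _)) ▸ h
  obtain ⟨t, ht, htreg⟩ := TransLib.exists_weaklyRegular_away p (List.ofFn g) hreg'
  let V : X.affineOpens := X.affineBasicOpen t
  haveI := U.2.isLocalization_basicOpen t
  refine ⟨V, ?_, fun j => algebraMap Γ(X, U.1) Γ(X, X.basicOpen t) (g j), ?_, ?_⟩
  · show i.base y ∈ X.basicOpen t
    rw [Scheme.mem_basicOpen X t _ hyU]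
    exact (IsLocalization.AtPrime.isUnit_to_map_iff (X.presheaf.stalk (i y)) p t).2 ht
  · rw [← i.ker.map_ideal (U := V) (V := U) (X.basicOpen_le t), hg, Ideal.map_span, ← Set.range_comp]
    rfl
  · have h := htreg t dvd_rfl
    let e' := IsLocalization.algEquiv (Submonoid.powers t) (Localization.Away t) Γ(X, X.basicOpen t)
    letI : Algebra (Localization.Away t) Γ(X, X.basicOpen t) := e'.toRingEquiv.toRingHom.toAlgebra
    haveI : Module.Flat (Localization.Away t) Γ(X, X.basicOpen t) := RingHom.Flat.of_bijective e'.bijective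
    have h' := RingTheory.Sequence.IsWeaklyRegular.of_flat (S := Γ(X, X.basicOpen t)) h
    rw [List.map_map, List.map_ofFn] at h'
    have eq : (⇑(algebraMap (Localization.Away t) Γ(X, X.basicOpen t)) ∘
        ⇑(algebraMap Γ(X, U.1) (Localization.Away t))) ∘ g =
        fun j => algebraMap Γ(X, U.1) Γ(X, X.basicOpen t) (g j) := funext fun j => e'.commutes (g j)
    rw [eq] at h'
    exact h'

end KoszShLib

end
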